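import Groth.Agent.H12Pic.CurveFam.AlgEquivGroup
import Groth.Agent.H12Pic.RigPoints
import Groth.Agent.H12Pic.FibreConst
import Groth.Agent.H17.PullCl
import Groth.Agent.H25Theta.Basic
import Groth.Prelude.Def_AgPol
import Groth.Prelude.Def_AbDual

/-!
# Classes algebraically trivial on the fibres, and the points of a dual
-/

set_option autoImplicit false
set_option linter.style.haveILetI false
set_option linter.unusedSectionVars false
universe u

open CategoryTheory CategoryTheory.Limits MonoidalCategory CartesianMonoidalCategory MonObj AlgebraicGeometry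
open Groth.Agent
open Groth.Agent.H25Theta (pb pT pC pI pO tI)

noncomputable section

namespace Groth.Agent.H25Dual

/-- Algebraic equivalence to zero is stable under pullback. -/
theorem algEquiv_pullback {k : Type u} [Field k] {Y Y' : Scheme.{u}} (s : Y ⟶ Spec (CommRingCat.of k))
    (s' : Y' ⟶ Spec (CommRingCat.of k)) (h : Y' ⟶ Y) (hh : h ≫ s = s') {L : Y.Modules}
    (hL : @Pic13.IsAlgEquivZero k _ Y ⟨s⟩ L) : @Pic13.IsAlgEquivZero k _ Y' ⟨s'⟩ (pb h L) := by
  letI : Y.Over (Spec (CommRingCat.of k)) := ⟨s⟩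
  letI : Y'.Over (Spec (CommRingCat.of k)) := ⟨s'⟩
  obtain ⟨T, q, h1, h2, h3, M, hM, t, t₀, ht, ht₀, ⟨e₁⟩, ⟨e₂⟩⟩ := hL
  let H : Pic13.prodK k Y' q ⟶ Pic13.prodK k Y q :=
    pullback.map _ _ _ _ h (𝟙 T) (𝟙 _) (by rw [Category.comp_id]; exact hh.symm) (by simp)
  have w : ∀ (a : Spec (CommRingCat.of k) ⟶ T) (ha : a ≫ q = 𝟙 _),
      Pic13.sliceAt k Y' q a ha ≫ H = h ≫ Pic13.sliceAt k Y q a ha := by
    intro a ha
    refine pullback.hom_ext ?_ ?_
    · simp only [Pic13.sliceAt, H, Category.assoc, pullback.lift_fst, pullback.lift_fst_assoc,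
        Category.id_comp, Category.comp_id]
    · simp only [Pic13.sliceAt, H, Category.assoc, pullback.lift_snd, Category.comp_id]
      exact (congrArg (· ≫ a) hh.symm).trans (Category.assoc _ _ _)
  exact ⟨T, q, h1, h2, h3, pb H M, H11Ample.isInvertible_pullback H hM, t, t₀, ht, ht₀,
    ⟨pC _ _ (w t ht) M ≪≫ (pC h _ rfl M).symm ≪≫ (Scheme.Modules.pullback h).mapIso e₁⟩,
    ⟨pC _ _ (w t₀ ht₀) M ≪≫ (pC h _ rfl M).symm ≪≫ (Scheme.Modules.pullback h).mapIso e₂ ≪≫ pO h⟩⟩

section Base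

variable {S : Scheme.{u}} {X X' : Scheme.{u}} {f : X ⟶ S} {f' : X' ⟶ S}

/-- Pullback of a fibrewise trivial class along a change of the parameters and of the space. -/
theorem picZero_pull {T T' : Over S} (g : T' ⟶ T) (h : PicF.XT f' T' ⟶ PicF.XT f T)
    (hh : h ≫ PicF.XTproj f T = PicF.XTproj f' T' ≫ g.left) {c : PicF.Cl (PicF.XT f T)}
    (hc : AbDual.IsPicZeroCl f T c) : AbDual.IsPicZeroCl f' T' (PicF.pullCl h c) := by
  obtain ⟨L, rfl, hL, hfib⟩ := hc
  refine ⟨pb h L, rfl, H11Ample.isInvertible_pullback h hL, fun t Ω _ _ σ hσ => ?_⟩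
  have hσ' : Set.range (σ ≫ g.left).base = {g.left t} := by
    rw [Scheme.Hom.comp_base, TopCat.coe_comp, Set.range_comp, hσ, Set.image_singleton]
  have h0 := hfib (g.left t) Ω (σ ≫ g.left) hσ'
  let H : pullback (PicF.XTproj f' T') σ ⟶ pullback (PicF.XTproj f T) (σ ≫ g.left) :=
    pullback.lift (pullback.fst _ _ ≫ h) (pullback.snd _ _) (by
      rw [Category.assoc, hh, ← Category.assoc, pullback.condition, Category.assoc])
  have h1 := algEquiv_pullback _ (pullback.snd (PicF.XTproj f' T') σ) H (pullback.lift_snd _ _ _) h0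
  letI : (pullback (PicF.XTproj f' T') σ).Over (Spec (CommRingCat.of Ω)) := ⟨pullback.snd _ _⟩
  exact H12Pic.CurveFam.algEquiv_congr (pC H _ (pullback.lift_fst _ _ _) L ≪≫ (pC _ h rfl L).symm) h1

theorem picZero_XTmap {T T' : Over S} (g : T' ⟶ T) {c : PicF.Cl (PicF.XT f T)}
    (hc : AbDual.IsPicZeroCl f T c) : AbDual.IsPicZeroCl f T' (PicF.pullCl (PicF.XTmap f g) c) :=
  picZero_pull g _ (H17.PullCl.XTmap_snd (f := f) g) hc

theorem picZero_bcMap {A B : Over S} (φ : A ⟶ B) (T : Over S) {c : PicF.Cl (PicF.XT B.hom T)}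
    (hc : AbDual.IsPicZeroCl B.hom T c) : AbDual.IsPicZeroCl A.hom T (PicF.pullCl (AbDual.bcMap φ T) c) :=
  picZero_pull (𝟙 T) _ (by
    rw [AbDual.bcMap, PicF.XTproj, PicF.XTproj, pullback.lift_snd]
    rfl) hc

theorem picZero_tensor {T : Over S} {L L' : (PicF.XT f T).Modules} (hL : AbDual.IsPicZeroCl f T (PicF.cl L))
    (hL' : AbDual.IsPicZeroCl f T (PicF.cl L')) : AbDual.IsPicZeroCl f T (PicF.cl (CohB1.tensorMod L L')) := by
  obtain ⟨M, e, hM, hfib⟩ := hL
  obtain ⟨M', e', hM', hfib'⟩ := hL'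
  obtain ⟨i⟩ := H12Pic.Sep.iso_of_cl_eq e
  obtain ⟨i'⟩ := H12Pic.Sep.iso_of_cl_eq e'
  refine ⟨CohB1.tensorMod M M', Quot.sound ⟨tI i i'⟩, H11Ample.isInvertible_tensor hM hM', fun t Ω _ _ σ hσ => ?_⟩
  letI : (pullback (PicF.XTproj f T) σ).Over (Spec (CommRingCat.of Ω)) := ⟨pullback.snd _ _⟩
  exact H12Pic.CurveFam.algEquiv_congr (pT _ M M').symm
    (H12Pic.CurveFam.algEquiv_tensor (hfib t Ω σ hσ) (hfib' t Ω σ hσ))

theorem picZero_structure (T : Over S) :
    AbDual.IsPicZeroCl f T (PicF.cl (Coh.structureModule (PicF.XT f T))) := by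
  refine ⟨_, rfl, fun y => ⟨⊤, trivial, ⟨Scheme.Modules.restrictUnitIso _⟩⟩, fun t Ω _ _ σ hσ => ?_⟩
  letI : (pullback (PicF.XTproj f T) σ).Over (Spec (CommRingCat.of Ω)) := ⟨pullback.snd _ _⟩
  exact H12Pic.CurveFam.algEquiv_congr (pO _).symm H12Pic.CurveFam.algEquiv_structure

variable {A At : Over S} [GrpObj At] {φ : ∀ T : Over S, PicF.Cl (PicF.XT A.hom T) → (T ⟶ At)}
  (hφ : AbDual.IsDualAV Scheme.fppfPrecoverage A At φ)

include hφ in
theorem phi_structure (T : Over S) : φ T (PicF.cl (Coh.structureModule (PicF.XT A.hom T))) = 1 := by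
  have h := hφ.mul T _ _ (picZero_structure (f := A.hom) T) (picZero_structure (f := A.hom) T)
  rw [show PicF.cl (CohB1.tensorMod (Coh.structureModule (PicF.XT A.hom T)) (Coh.structureModule _)) =
    PicF.cl (Coh.structureModule (PicF.XT A.hom T)) from Quot.sound ⟨H10Coh.Tw.rightUnitIso _⟩] at h
  exact mul_eq_right.1 h.symm

include hφ in
theorem phi_tensorPow (T : Over S) {L : (PicF.XT A.hom T).Modules} (hL : AbDual.IsPicZeroCl A.hom T (PicF.cl L)) :
    ∀ n : ℕ, AbDual.IsPicZeroCl A.hom T (PicF.cl (CohB1.tensorPow L n)) ∧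
      φ T (PicF.cl (CohB1.tensorPow L n)) = φ T (PicF.cl L) ^ n
  | 0 => ⟨picZero_structure T, by rw [pow_zero]; exact phi_structure hφ T⟩
  | n + 1 => ⟨picZero_tensor (phi_tensorPow T hL n).1 hL,
      (hφ.mul T _ _ (phi_tensorPow T hL n).1 hL).trans (by rw [(phi_tensorPow T hL n).2, pow_succ])⟩

end Base

section Field

variable {k : Type u} [Field k] {A At : Over (Spec (CommRingCat.of k))}

theorem isIso_XTproj_app [IsProper A.hom] [GeometricallyIntegral A.hom] (T : Over (Spec (CommRingCat.of k)))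
    (U : T.left.Opens) : IsIso ((PicF.XTproj A.hom T).app U) := by
  haveI : GeometricallyIntegral (PicF.XTproj A.hom T) := inferInstance
  exact LeadBC.GenBC.isIso_app_of_fibres _ (fun t => H12Pic.isIso_appTop_fiber_of_geomIntegral _ t) U

variable [GrpObj A] [IsProper A.hom] [GeometricallyIntegral A.hom]

/-- Rigidified along the unit. -/
def IsRigidified (T : Over (Spec (CommRingCat.of k))) (L : (PicF.XT A.hom T).Modules) : Prop :=
  Nonempty (pb (PicF.secT A.hom η[A].left (Over.w η[A]) T) L ≅ Coh.structureModule T.left)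

theorem isRigidified_pull {T T' : Over (Spec (CommRingCat.of k))} (g : T' ⟶ T) {L : (PicF.XT A.hom T).Modules}
    (hL : IsRigidified T L) : IsRigidified T' (pb (PicF.XTmap A.hom g) L) := by
  obtain ⟨e⟩ := hL
  exact ⟨pC _ _ (H12Pic.RigPoints.secT_XTmap A.hom (Over.w η[A]) g) L ≪≫ (pC g.left _ rfl L).symm ≪≫
    (Scheme.Modules.pullback g.left).mapIso e ≪≫ pO _⟩

theorem isRigidified_structure (T : Over (Spec (CommRingCat.of k))) :
    IsRigidified (A := A) T (Coh.structureModule _) := ⟨pO _⟩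

variable [GrpObj At] {φ : ∀ T : Over (Spec (CommRingCat.of k)), PicF.Cl (PicF.XT A.hom T) → (T ⟶ At)}
  (hφ : AbDual.IsDualAV Scheme.fppfPrecoverage A At φ)

include hφ in
/-- Rigidified classes with the same point are isomorphic. -/
theorem rig_injective (T : Over (Spec (CommRingCat.of k))) {L L' : (PicF.XT A.hom T).Modules}
    (hL : PicF.IsInvertible L) (hL' : PicF.IsInvertible L')
    (h0 : AbDual.IsPicZeroCl A.hom T (PicF.cl L)) (h0' : AbDual.IsPicZeroCl A.hom T (PicF.cl L'))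
    (r : IsRigidified T L) (r' : IsRigidified T L') (h : φ T (PicF.cl L) = φ T (PicF.cl L')) :
    Nonempty (L ≅ L') := by
  obtain ⟨R, hR, hR'⟩ := hφ.relPic.locallyInjective T _ _ h0 h0' h
  obtain ⟨U, v, hv, -, hf, hp, hs⟩ := H12Pic.RigPoints.exists_member hR
  let c : PicF.Rig A.hom η[A].left (Over.w η[A]) T := ⟨PicF.cl L, ⟨L, rfl, hL⟩, Quot.sound r⟩
  let d : PicF.Rig A.hom η[A].left (Over.w η[A]) T := ⟨PicF.cl L', ⟨L', rfl, hL'⟩, Quot.sound r'⟩
  have := H12Pic.RigDescent.eq_of_cover A.hom (Over.w η[A]) isIso_XTproj_app T (Sigma.desc v) c d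
    (H12Pic.RigPoints.pullCl_eq_sigma A.hom T v c.2.1 d.2.1 fun j => hR' (v j) (hv j))
  exact H12Pic.Sep.iso_of_cl_eq (congrArg Subtype.val this)

end Field

end Groth.Agent.H25Dual
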