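import Groth.Agent.H25Dual.Basic
import Groth.Agent.H12Pic.PicCurve.BaseChangePic

/-!
# Base change of a dual is a dual
-/

set_option autoImplicit false
set_option linter.style.haveILetI false
set_option linter.unusedSectionVars false
set_option backward.isDefEq.respectTransparency false
set_option backward.isDefEq.respectTransparency.types false
universe u

open CategoryTheory CategoryTheory.Limits MonoidalCategory CartesianMonoidalCategory MonObj AlgebraicGeometry
open Groth.Agent Groth.Agent.H17.PullCl
open Groth.Agent.H25Theta (pb pT pC pI pO tI)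

noncomputable section

attribute [local instance] Functor.grpObjObj

namespace Groth.Agent.H25Dual.BaseChange

open Groth.Agent.H12Pic.PicCurve.BaseChangePic (down downHom toS toS_pullCl)

variable {S S' : Scheme.{u}} (g : S' ⟶ S)

/-- Pullback of a fibrewise trivial class, the base scheme changing as well. -/
theorem picZero_pull' {X X' : Scheme.{u}} {f : X ⟶ S} {f' : X' ⟶ S'} {T : Over S} {T' : Over S'}
    (t : T'.left ⟶ T.left) (h : PicF.XT f' T' ⟶ PicF.XT f T)
    (hh : h ≫ PicF.XTproj f T = PicF.XTproj f' T' ≫ t) {c : PicF.Cl (PicF.XT f T)}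
    (hc : AbDual.IsPicZeroCl f T c) : AbDual.IsPicZeroCl f' T' (PicF.pullCl h c) := by
  obtain ⟨L, rfl, hL, hfib⟩ := hc
  refine ⟨pb h L, rfl, H11Ample.isInvertible_pullback h hL, fun x Ω _ _ σ hσ => ?_⟩
  have hσ' : Set.range (σ ≫ t).base = {t x} := by
    rw [Scheme.Hom.comp_base, TopCat.coe_comp, Set.range_comp, hσ, Set.image_singleton]
  have h0 := hfib (t x) Ω (σ ≫ t) hσ'
  let H : pullback (PicF.XTproj f' T') σ ⟶ pullback (PicF.XTproj f T) (σ ≫ t) :=
    pullback.lift (pullback.fst _ _ ≫ h) (pullback.snd _ _) (by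
      rw [Category.assoc, hh, ← Category.assoc, pullback.condition, Category.assoc])
  have h1 := algEquiv_pullback _ (pullback.snd (PicF.XTproj f' T') σ) H (pullback.lift_snd _ _ _) h0
  letI : (pullback (PicF.XTproj f' T') σ).Over (Spec (CommRingCat.of Ω)) := ⟨pullback.snd _ _⟩
  exact H12Pic.CurveFam.algEquiv_congr (pC H _ (pullback.lift_fst _ _ _) L ≪≫ (pC _ h rfl L).symm) h1

variable {A At : Over S} (φ : AgPol.DualMap A At)

/-- A class seen over the original base is fibrewise trivial. -/
theorem picZero_toS (T : Over S') {c : PicF.Cl (PicF.XT (pullback.snd A.hom g) T)}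
    (hc : AbDual.IsPicZeroCl (pullback.snd A.hom g) T c) :
    AbDual.IsPicZeroCl A.hom (down g T) (toS A.hom g T c) :=
  picZero_pull' (f := pullback.snd A.hom g) (f' := A.hom) (T := T) (T' := down g T) (𝟙 T.left) _ (by
    rw [PicF.XTproj, PicF.XTproj, pullbackLeftPullbackSndIso_inv_snd_snd]
    exact (Category.comp_id _).symm) hc

theorem picZero_ofS (T : Over S') {c : PicF.Cl (PicF.XT A.hom (down g T))}
    (hc : AbDual.IsPicZeroCl A.hom (down g T) c) :
    AbDual.IsPicZeroCl (pullback.snd A.hom g) T
      (PicF.pullCl (pullbackLeftPullbackSndIso A.hom g T.hom).hom c) :=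
  picZero_pull' (f := A.hom) (f' := pullback.snd A.hom g) (T := down g T) (T' := T) (𝟙 T.left) _ (by
    rw [PicF.XTproj, PicF.XTproj]
    exact (pullbackLeftPullbackSndIso_hom_snd A.hom g T.hom).trans (Category.comp_id _).symm) hc

/-- The point map of the base change is adjoint to the point map. -/
theorem bcDual_eq (T : Over S') (c : PicF.Cl (PicF.XT (Red.bc g A).hom T)) :
    AgPol.bcDual g A At φ T c =
      (Over.mapPullbackAdj g).homEquiv T At (φ (down g T) (toS A.hom g T c)) := by
  refine Over.OverMorphism.ext (pullback.hom_ext ?_ ?_)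
  · simp [Adjunction.homEquiv_unit, AgPol.bcDual, toS, AgPol.bcXTIso]
    exact (Category.id_comp _).symm
  · simp [Adjunction.homEquiv_unit, AgPol.bcDual]

theorem bcDual_fst (T : Over S') (c : PicF.Cl (PicF.XT (Red.bc g A).hom T)) :
    (AgPol.bcDual g A At φ T c).left ≫ pullback.fst At.hom g = (φ (down g T) (toS A.hom g T c)).left :=
  pullback.lift_fst _ _ _

theorem hom_ext_bc {T : Over S'} {a b : T ⟶ Red.bc g At}
    (h : a.left ≫ pullback.fst At.hom g = b.left ≫ pullback.fst At.hom g) : a = b :=
  Over.OverMorphism.ext (pullback.hom_ext h ((Over.w a).trans (Over.w b).symm))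

variable [GrpObj At] {φ}

/-- The base change of a dual is a dual. -/
theorem isDualAV_bc (hφ : AbDual.IsDualAV Scheme.fppfPrecoverage A At φ) :
    AbDual.IsDualAV Scheme.fppfPrecoverage (Red.bc g A) (Red.bc g At) (AgPol.bcDual g A At φ) where
  relPic :=
  { natural := fun T T' h c hc => hom_ext_bc g <| by
      rw [Over.comp_left, Category.assoc, bcDual_fst, bcDual_fst]
      erw [toS_pullCl]
      rw [hφ.relPic.natural _ _ (downHom g h) _ (picZero_toS g T hc)]
      rfl
    locallySurjective := fun T a => by
      let a₀ : down g T ⟶ At := Over.homMk (a.left ≫ pullback.fst At.hom g) (by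
        rw [Category.assoc, pullback.condition, ← Category.assoc]
        exact congrArg (· ≫ g) (Over.w a))
      obtain ⟨R, hR, hR'⟩ := hφ.relPic.locallySurjective (down g T) a₀
      refine ⟨R, hR, fun U v hv => ?_⟩
      obtain ⟨c, hc, hφc⟩ := hR' v hv
      let i : down g (AbDual.ovr T v) ⟶ AbDual.ovr (down g T) v :=
        Over.homMk (𝟙 U) ((Category.id_comp _).trans (Category.assoc v T.hom g).symm)
      refine ⟨PicF.pullCl (pullbackLeftPullbackSndIso A.hom g (AbDual.ovr T v).hom).hom
        (PicF.pullCl (PicF.XTmap A.hom i) c), picZero_ofS g _ (picZero_XTmap i hc), hom_ext_bc g ?_⟩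
      rw [bcDual_fst, toS]
      erw [← pullCl_comp, Iso.inv_hom_id, pullCl_id]
      rw [hφ.relPic.natural _ _ i _ hc, hφc]
      exact (Category.id_comp _).trans (Category.assoc _ _ _).symm
    locallyInjective := fun T c c' hc hc' h => by
      have h' : φ (down g T) (toS A.hom g T c) = φ (down g T) (toS A.hom g T c') := Over.OverMorphism.ext <| by
        rw [← bcDual_fst, ← bcDual_fst, h]
      obtain ⟨R, hR, hR'⟩ := hφ.relPic.locallyInjective _ _ _ (picZero_toS g T hc) (picZero_toS g T hc') h'
      refine ⟨R, hR, fun U v hv => ?_⟩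
      let i : down g (AbDual.ovr T v) ⟶ AbDual.ovr (down g T) v :=
        Over.homMk (𝟙 U) ((Category.id_comp _).trans (Category.assoc v T.hom g).symm)
      have hi : downHom g (AbDual.ovrHom T v) = i ≫ AbDual.ovrHom (down g T) v :=
        Over.OverMorphism.ext (Category.id_comp v).symm
      have h2 := congrArg (PicF.pullCl (PicF.XTmap A.hom i)) (hR' v hv)
      rw [← pullCl_comp, ← pullCl_comp, ← XTmap_comp, ← hi, ← toS_pullCl, ← toS_pullCl] at h2
      have h3 := congrArg (PicF.pullCl (pullbackLeftPullbackSndIso A.hom g (AbDual.ovr T v).hom).hom) h2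
      have key : ∀ d, PicF.pullCl (pullbackLeftPullbackSndIso A.hom g (AbDual.ovr T v).hom).hom
          (toS A.hom g (AbDual.ovr T v) d) = d := fun d => by
        rw [toS, ← pullCl_comp, Iso.hom_inv_id]
        exact pullCl_id d
      rwa [key, key] at h3 }
  mul T L M hL hM := by
    rw [bcDual_eq, bcDual_eq, bcDual_eq]
    let e := (pullbackLeftPullbackSndIso A.hom g T.hom).inv
    have hmul : ∀ x y : (Over.map g).obj T ⟶ At, (Over.mapPullbackAdj g).homEquiv T At (x * y) =
        (Over.mapPullbackAdj g).homEquiv T At x * (Over.mapPullbackAdj g).homEquiv T At y := fun x y => by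
      rw [Adjunction.homEquiv_unit, Adjunction.homEquiv_unit, Adjunction.homEquiv_unit]
      exact (congrArg _ (map_mul (Functor.homMonoidHom (Over.pullback g)) x y)).trans (MonObj.comp_mul _ _ _)
    have h1 := picZero_toS g T hL
    have h2 := picZero_toS g T hM
    refine Eq.trans ?_ (hmul _ _)
    refine congrArg _ (Eq.trans ?_ (hφ.mul (down g T) (pb e L) (pb e M) h1 h2))
    exact congrArg _ (Quot.sound ⟨pT e L M⟩)

end Groth.Agent.H25Dual.BaseChange
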