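import Groth.Agent.H25Dual.Points
import Groth.Agent.H25AbCube.Abelian

/-!
# Biextension property of classes rigidified on both axes
-/

set_option autoImplicit false
set_option linter.style.haveILetI false
set_option linter.unusedSectionVars false
set_option backward.isDefEq.respectTransparency false
set_option synthInstance.maxHeartbeats 400000
universe u

open CategoryTheory CategoryTheory.Limits MonoidalCategory CartesianMonoidalCategory MonObj AlgebraicGeometry
open Groth.Agent Groth.Agent.H25AbCube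

noncomputable section

namespace Groth.Agent.H25Dual

variable {k : Type u} [Field k] {A B : Over (Spec (CommRingCat.of k))} [GrpObj A] [IsProper A.hom]
  [GeometricallyIntegral A.hom] [GrpObj B] [IsProper B.hom] [GeometricallyIntegral B.hom]

theorem lift_mul_lift {T : Over (Spec (CommRingCat.of k))} (a a' : T ⟶ A) (b b' : T ⟶ B) :
    lift a b * lift a' b' = lift (a * a') (b * b') := by
  apply CartesianMonoidalCategory.hom_ext
  · rw [MonObj.mul_comp, lift_fst, lift_fst, lift_fst]
  · rw [MonObj.mul_comp, lift_snd, lift_snd, lift_snd]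

/-- A class trivial on both axes is bilinear. -/
theorem bilinear (u : PC (A ⊗ B).left) (hl : ∀ {T : Over (Spec (CommRingCat.of k))} (b : T ⟶ B), ev u (lift 1 b) = 0)
    (hr : ∀ {T : Over (Spec (CommRingCat.of k))} (a : T ⟶ A), ev u (lift a 1) = 0)
    {T : Over (Spec (CommRingCat.of k))} :
    (∀ (a a' : T ⟶ A) (b : T ⟶ B), ev u (lift (a * a') b) = ev u (lift a b) + ev u (lift a' b)) ∧
      ∀ (a : T ⟶ A) (b b' : T ⟶ B), ev u (lift a (b * b')) = ev u (lift a b) + ev u (lift a b') := by
  haveI : IsProper (A ⊗ B).hom := inferInstanceAs (IsProper (pullback.fst A.hom B.hom ≫ A.hom))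
  constructor
  · intro a a' b
    have h := three u (lift a (1 : T ⟶ B)) (lift a' (1 : T ⟶ B)) (lift (1 : T ⟶ A) b)
    simp only [lift_mul_lift, _root_.one_mul, _root_.mul_one, hl, hr, add_zero, zero_add] at h
    exact h
  · intro a b b'
    have h := three u (lift (1 : T ⟶ A) b) (lift (1 : T ⟶ A) b') (lift a (1 : T ⟶ B))
    simp only [lift_mul_lift, _root_.one_mul, _root_.mul_one, hl, hr, add_zero, zero_add] at h
    exact h

variable {φ : ∀ T : Over (Spec (CommRingCat.of k)), PicF.Cl (PicF.XT A.hom T) → (T ⟶ B)}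
  (hφ : AbDual.IsDualAV Scheme.fppfPrecoverage A B φ)

include hφ in
/-- The Poincaré class is trivial on both axes and bilinear. -/
theorem poincare_facts (P : (PicF.XT A.hom B).Modules) (hP : PicF.IsInvertible P)
    (hξ : AbDual.IsPoincareCl A B φ (PicF.cl P)) {T : Over (Spec (CommRingCat.of k))} :
    (∀ b : T ⟶ B, ev (pc (X := (A ⊗ B).left) P hP) (lift 1 b) = 0) ∧
      (∀ a : T ⟶ A, ev (pc (X := (A ⊗ B).left) P hP) (lift a 1) = 0) ∧
      (∀ (a a' : T ⟶ A) (b : T ⟶ B), ev (pc (X := (A ⊗ B).left) P hP) (lift (a * a') b) =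
        ev (pc (X := (A ⊗ B).left) P hP) (lift a b) + ev (pc (X := (A ⊗ B).left) P hP) (lift a' b)) ∧
      ∀ (a : T ⟶ A) (b b' : T ⟶ B), ev (pc (X := (A ⊗ B).left) P hP) (lift a (b * b')) =
        ev (pc (X := (A ⊗ B).left) P hP) (lift a b) + ev (pc (X := (A ⊗ B).left) P hP) (lift a b') := by
  obtain ⟨hz, h1, h0⟩ := hξ
  set u : PC (A ⊗ B).left := pc P hP
  have huz : PZ A B u := pz_pc hP hz
  have hr0 : ev u (lift (1 : B ⟶ A) (𝟙 B)) = 0 := by
    obtain ⟨e⟩ := H12Pic.Sep.iso_of_cl_eq h0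
    refine (pullP_pc _ P hP (H11Ample.isInvertible_pullback _ hP)).symm.trans (Eq.trans ?_ pc_one)
    exact (pc_eq_iff _ _).2 ⟨((Scheme.Modules.pullbackCongr (secT_eq (A := A) B)).app P).symm ≪≫ e⟩
  have hl : ∀ {S : Over (Spec (CommRingCat.of k))} (b : S ⟶ B), ev u (lift 1 b) = 0 := fun {S} b => by
    rw [show lift (1 : S ⟶ A) b = b ≫ lift (1 : B ⟶ A) (𝟙 B) by
      apply CartesianMonoidalCategory.hom_ext <;> simp, ← ev_comp, hr0]
    exact map_zero _
  have he : ev u (A ◁ η[B]) = 0 := rig_eq hφ (pz_ev_left _ huz) pz_zero (rig_point _) (rig_point _) (by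
    show Φ φ _ (ev u (A ◁ η[B])) = Φ φ _ 0
    rw [Φ_nat hφ _ huz, show Φ φ B u = 𝟙 B from (Φ_pc _ P hP).trans h1, Category.comp_id, Φ_zero hφ, Hom.one_def,
      toUnit_unique (toUnit _) (𝟙 _), Category.id_comp])
  have hr : ∀ {S : Over (Spec (CommRingCat.of k))} (a : S ⟶ A), ev u (lift a 1) = 0 := fun {S} a => by
    rw [show lift a (1 : S ⟶ B) = lift a (toUnit S) ≫ (A ◁ η[B]) by
      apply CartesianMonoidalCategory.hom_ext
      · simp
      · simp [one_eq], ← ev_comp, he]
    exact map_zero _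
  exact ⟨hl, hr, bilinear u hl hr⟩

end Groth.Agent.H25Dual
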