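import Groth.Agent.H25Poinc.DimDual
import Groth.Agent.H25Dual.BaseChange
import Groth.Agent.H25Hat.BaseK
import Groth.Agent.H25AbCube.DetDeg
import Groth.Agent.H25Index.EulerIsogeny
import Mathlib.AlgebraicGeometry.ZariskisMainTheorem

/-!
# The degree of the homomorphism of an ample class and of a transpose, over any field
-/

set_option autoImplicit false
set_option linter.style.haveILetI false
set_option linter.unusedSectionVars false
set_option backward.isDefEq.respectTransparency false
set_option synthInstance.maxHeartbeats 400000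
set_option maxHeartbeats 1600000
universe u

open CategoryTheory CategoryTheory.Limits MonoidalCategory CartesianMonoidalCategory MonObj AlgebraicGeometry
open Groth.Agent Groth.Agent.H25AbCube Groth.Agent.H25AbCube.GeomTate
open Groth.Agent.H25Index (Kbar gX gp gM FixFinite)

noncomputable section

attribute [local instance] Functor.grpObjObj

namespace Groth.Agent.H25Dual

variable {k : Type u} [Field k] {A At : Over (Spec (CommRingCat.of k))} [GrpObj A] [IsProper A.hom]
  [GeometricallyIntegral A.hom] [GrpObj At] [IsProper At.hom] [GeometricallyIntegral At.hom]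
  {φ : ∀ T : Over (Spec (CommRingCat.of k)), PicF.Cl (PicF.XT A.hom T) → (T ⟶ At)}
  (hφ : AbDual.IsDualAV Scheme.fppfPrecoverage A At φ)

include hφ in
/-- The kernel of the homomorphism of a class consists of the translations fixing it. -/
theorem comp_lam_eq_one_iff (l : PC A.left) (T : Over (Spec (CommRingCat.of k))) (a : T ⟶ A) :
    a ≫ Φ φ A (theta l) = 1 ↔ ev (theta l) (A ◁ a) = 0 := by
  haveI : IsCommMonObj A := isCommMonObj_of_av
  obtain ⟨h1, h2⟩ := H25Poinc.comp_lam_field hφ l a
  have hw : ev (theta l) (A ◁ a) = th l (fst A T) (snd A T ≫ a) := by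
    rw [show A ◁ a = lift (fst A T) (snd A T ≫ a) by apply CartesianMonoidalCategory.hom_ext <;> simp, th_eq]
  rw [hw, h1]
  refine ⟨fun h => rig_eq hφ h2 pz_zero ?_ (map_zero _) (h.trans (Φ_zero hφ).symm), fun h => by rw [h, Φ_zero hφ]⟩
  rw [ev_th, lift_fst, lift_snd_assoc, Category.id_comp, th_comm, th_one_right]

include hφ in
theorem isMonHom_lam_field (l : PC A.left) : IsMonHom (Φ φ A (theta l)) := by
  haveI : IsCommMonObj A := isCommMonObj_of_av
  refine H25Rig.isMonHom_of_one_hom _ ?_
  rw [(H25Poinc.comp_lam_field hφ l η[A]).1, show snd A (𝟙_ _) ≫ η[A] = (1 : A ⊗ 𝟙_ _ ⟶ A) by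
    rw [one_eq, toUnit_unique (snd A (𝟙_ _)) (toUnit _)], th_one_right, Φ_zero hφ, Hom.one_def,
    toUnit_unique (toUnit _) (𝟙 _), Category.id_comp]

include hφ in
/-- The dual of an abelian variety has the same dimension, over any field. -/
theorem dim_dual {g : ℕ} (hg : topologicalKrullDim A.left = g) : topologicalKrullDim At.left = g := by
  haveI : IsCommMonObj A := isCommMonObj_of_av
  haveI : IsCommMonObj At := isCommMonObj_of_av
  haveI : IsIntegral At.left := GeometricallyIntegral.isIntegral_of_subsingleton At.hom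
  obtain ⟨d, hd⟩ := H25Grp.exists_nat_dim At.hom
  have hd' := dim_bc (Ω := Kbar k) At hd
  have hφ' := BaseChange.isDualAV_bc (σ k (Kbar k)) hφ
  haveI : IsProper (Red.bc (σ k (Kbar k)) A).hom := inferInstanceAs (IsProper (gX A).hom)
  haveI : GeometricallyIntegral (Red.bc (σ k (Kbar k)) A).hom := inferInstanceAs (GeometricallyIntegral (gX A).hom)
  haveI : IsProper (Red.bc (σ k (Kbar k)) At).hom := inferInstanceAs (IsProper (gX At).hom)
  haveI : GeometricallyIntegral (Red.bc (σ k (Kbar k)) At).hom := inferInstanceAs (GeometricallyIntegral (gX At).hom)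
  obtain rfl : d = g := le_antisymm (dim_dual_le hφ' (dim_bc (Ω := Kbar k) A hg) hd') (H25Poinc.dim_le_dual hφ hg hd)
  exact hd

include hφ in
/-- The degree of the homomorphism of an ample class is the square of its Euler characteristic. -/
theorem degree_lam (L : A.left.Modules) (hL : CohB1.IsAmple L) {g : ℕ} (hg : topologicalKrullDim A.left = g) :
    topologicalKrullDim At.left = g ∧ IsFinite (Φ φ A (theta (pc L hL.1))).left ∧
      Surjective (Φ φ A (theta (pc L hL.1))).left ∧
      (degree (Φ φ A (theta (pc L hL.1))) : ℤ) = @Curv2.euler k _ A.left ⟨A.hom⟩ L ^ 2 := by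
  haveI : IsCommMonObj A := isCommMonObj_of_av
  have hgt := dim_dual hφ hg
  haveI := isMonHom_lam_field hφ (pc L hL.1)
  set lam := Φ φ A (theta (pc L hL.1))
  let e1 := (η[At] : 𝟙_ _ ⟶ At).left
  let K : Over (Spec (CommRingCat.of k)) := Over.mk (pullback.snd lam.left e1)
  let i : K ⟶ A := Over.homMk (pullback.fst lam.left e1) (by
    show _ ≫ A.hom = pullback.snd lam.left e1
    rw [← Over.w lam, ← Category.assoc, pullback.condition, Category.assoc,
      show e1 ≫ At.hom = 𝟙 _ from Over.w η[At]]
    exact Category.comp_id _)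
  haveI : IsClosedImmersion e1 := by
    haveI : IsClosedImmersion (e1 ≫ At.hom) := by rw [show e1 ≫ At.hom = 𝟙 _ from Over.w η[At]]; infer_instance
    exact IsClosedImmersion.of_comp e1 At.hom
  haveI : IsClosedImmersion i.left := MorphismProperty.pullback_fst (P := @IsClosedImmersion) _ _ ‹IsClosedImmersion e1›
  have hK : ∀ (T : Over (Spec (CommRingCat.of k))) (a : T ⟶ A),
      (∃ z : T ⟶ K, z ≫ i = a) ↔ ev (theta (pc L hL.1)) (A ◁ a) = 0 := by
    intro T a
    rw [← comp_lam_eq_one_iff hφ]
    constructor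
    · rintro ⟨z, rfl⟩
      rw [Category.assoc, show i ≫ lam = toUnit K ≫ η[At] from Over.OverMorphism.ext pullback.condition,
        ← Category.assoc, Subsingleton.elim (z ≫ toUnit K) (toUnit T)]
      rfl
    · intro h
      have h' : a.left ≫ lam.left = T.hom ≫ e1 := congrArg CommaMorphism.left h
      exact ⟨Over.homMk (pullback.lift a.left T.hom h') (pullback.lift_snd _ _ _),
        Over.OverMorphism.ext (pullback.lift_fst _ _ _)⟩
  haveI : IsAffineHom (gp A) := MorphismProperty.pullback_fst _ _ (inferInstanceAs (IsAffineHom (σ k (Kbar k))))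
  haveI : IsIntegral A.left := GeometricallyIntegral.isIntegral_of_subsingleton A.hom
  have hfix : FixFinite (pc (gM L) (H11Ample.isInvertible_pullback (gp A) hL.1)) :=
    finite_fixing (gM L) (H11Ample.isAmple_pullback_of_isAffineHom (gp A) hL)
  obtain ⟨hKf, hr⟩ := H25Hat.euler_sq_field L hL.1 hfix i hK
  haveI := hKf
  haveI : IsCommMonObj At := isCommMonObj_of_av
  let f' := (bc k (Kbar k)).map lam
  let adj := Over.mapPullbackAdj (σ k (Kbar k))
  haveI : IsMonHom f' := inferInstanceAs (IsMonHom ((bc k (Kbar k)).map lam))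
  haveI : Finite ((Over.map (σ k (Kbar k))).obj (pt1 (Kbar k)) ⟶ K) := by
    haveI := finite_pt_hom (k := k) (Ω := Kbar k) K
    exact Finite.of_equiv _ (jIso (k := k) (Ω := Kbar k)).homFromEquiv.symm
  have hker : Set.Finite {x : pt1 (Kbar k) ⟶ gX A | x ≫ f' = 1} := by
    refine (Set.finite_range fun z : (Over.map (σ k (Kbar k))).obj (pt1 (Kbar k)) ⟶ K =>
      adj.homEquiv (pt1 (Kbar k)) A (z ≫ i)).subset fun x hx => ?_
    let x₀ := (adj.homEquiv (pt1 (Kbar k)) A).symm x
    have hx₀ : x₀ ≫ lam = 1 := by
      apply (adj.homEquiv _ At).injective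
      have h1 : adj.homEquiv (pt1 (Kbar k)) At 1 = 1 := by
        rw [Adjunction.homEquiv_unit]
        exact (congrArg _ (map_one (Functor.homMonoidHom (bc k (Kbar k))))).trans (MonObj.comp_one _)
      rw [Adjunction.homEquiv_naturality_right, h1]
      simp only [x₀, Equiv.apply_symm_apply]
      exact hx
    obtain ⟨z, hz⟩ := (hK _ x₀).2 ((comp_lam_eq_one_iff hφ _ _ x₀).1 hx₀)
    refine ⟨z, ?_⟩
    show adj.homEquiv (pt1 (Kbar k)) A (z ≫ i) = x
    rw [hz]
    exact Equiv.apply_symm_apply _ _
  obtain ⟨hfin', -⟩ := isFinite_of_finite_pts f' hker (dim_bc (Ω := Kbar k) A hg) (dim_bc (Ω := Kbar k) At hgt)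
  have hσ : H18Descent.fpqc (pullback.fst At.hom (σ k (Kbar k))) := by
    refine ⟨⟨?_, ?_⟩, ?_⟩
    · exact MorphismProperty.pullback_fst (P := @Surjective) _ _ (surjective_σ k (Kbar k))
    · refine MorphismProperty.pullback_fst (P := @Flat) _ _ ?_
      show Flat (Spec.map _)
      rw [HasRingHomProperty.Spec_iff (P := @Flat)]
      exact RingHom.flat_algebraMap_iff.2 inferInstance
    · exact MorphismProperty.pullback_fst (P := @QuasiCompact) _ _ (inferInstanceAs (QuasiCompact (Spec.map _)))
  haveI hfin : IsFinite lam.left := MorphismProperty.of_isPullback_of_descendsAlong (P := @IsFinite)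
    (Q := H18Descent.fpqc.{u}) (isPullback_map (Ω := Kbar k) A lam).flip hσ hfin'
  haveI : IsIntegral At.left := GeometricallyIntegral.isIntegral_of_subsingleton At.hom
  haveI : Flat lam.left := flat_of_finite lam hg hgt
  refine ⟨hgt, hfin, surjective_of_finite lam.left hg hgt, ?_⟩
  let s : Spec (CommRingCat.of k) := IsLocalRing.closedPoint k
  rw [← hr s, ← finrank_eq_degree lam hg hgt (e1 s)]
  congr 1
  exact (Scheme.Hom.finrank_of_isPullback _ _ _ _ (IsPullback.of_hasPullback lam.left e1) s).symm

variable {B Bt : Over (Spec (CommRingCat.of k))} [GrpObj B] [IsProper B.hom]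
  [GeometricallyIntegral B.hom] [GrpObj Bt] [IsProper Bt.hom] [GeometricallyIntegral Bt.hom]
  {φB : ∀ T : Over (Spec (CommRingCat.of k)), PicF.Cl (PicF.XT B.hom T) → (T ⟶ Bt)}
  (hφB : AbDual.IsDualAV Scheme.fppfPrecoverage B Bt φB)
  {f : A ⟶ B} [IsMonHom f] {ft : Bt ⟶ At} (hft : AbDual.IsTranspose f φ φB ft)

include hφ hφB hft in
theorem isMonHom_transpose : IsMonHom ft := by
  haveI : IsCommMonObj At := isCommMonObj_of_av
  refine H25Rig.isMonHom_of_one_hom _ ?_
  have h := Φ_transpose (φ := φ) (T := 𝟙_ (Over (Spec (CommRingCat.of k)))) hft (pz_zero (A := B))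
  rw [show ev (0 : PC (B ⊗ 𝟙_ (Over (Spec (CommRingCat.of k)))).left) (f ▷ 𝟙_ _) = 0 from map_zero _, Φ_zero hφ,
    Φ_zero hφB] at h
  rw [Hom.one_def, Hom.one_def, toUnit_unique (toUnit (𝟙_ (Over (Spec (CommRingCat.of k))))) (𝟙 _), Category.id_comp,
    Category.id_comp] at h
  exact h.symm

include hφ hφB hft in
/-- The homomorphism of an inverse image. -/
theorem lam_pullback (m : PC B.left) :
    Φ φ A (theta (ev m f)) = f ≫ Φ φB B (theta m) ≫ ft := by
  haveI : IsCommMonObj A := isCommMonObj_of_av
  haveI : IsCommMonObj B := isCommMonObj_of_av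
  have e : theta (ev m f) = ev (ev (theta m) (B ◁ f)) (f ▷ A) := by
    rw [ev_comp, show (f ▷ A) ≫ (B ◁ f) = lift (fst A A ≫ f) (snd A A ≫ f) by
      apply CartesianMonoidalCategory.hom_ext <;> simp, th_eq, th, theta, ev_comp, ev_comp, ev_comp,
      MonObj.mul_comp]
  rw [e, Φ_transpose (φ := φ) hft (pz_ev_left f (H25Poinc.pz_theta_field m)), Φ_nat hφB f (H25Poinc.pz_theta_field m), Category.assoc]

include hφ hφB hft in
/-- The transpose of an isogeny is an isogeny of the same degree. -/
theorem transpose_isogeny [IsFinite f.left] [Flat f.left] [Surjective f.left] {d : ℕ}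
    (hd : ∀ y, f.left.finrank y = d) :
    IsFinite ft.left ∧ Flat ft.left ∧ Surjective ft.left ∧ ∀ x, ft.left.finrank x = d := by
  haveI : IsCommMonObj A := isCommMonObj_of_av
  haveI : IsCommMonObj B := isCommMonObj_of_av
  haveI : IsIntegral A.left := GeometricallyIntegral.isIntegral_of_subsingleton A.hom
  haveI : IsIntegral B.left := GeometricallyIntegral.isIntegral_of_subsingleton B.hom
  haveI : IsIntegral At.left := GeometricallyIntegral.isIntegral_of_subsingleton At.hom
  haveI : IsCommMonObj At := isCommMonObj_of_av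
  haveI : IsCommMonObj Bt := isCommMonObj_of_av
  haveI : IsIntegral Bt.left := GeometricallyIntegral.isIntegral_of_subsingleton Bt.hom
  obtain ⟨g, hg⟩ := H25Grp.exists_nat_dim A.hom
  have hgB : topologicalKrullDim B.left = g := by
    rw [← hg]
    refine le_antisymm
      (H17.topologicalKrullDim_le_of_specializingMap f.left f.left.isClosedMap.specializingMap f.left.surjective) ?_
    exact H17.topologicalKrullDim_le_of_noSpecializationsInFibres f.left f.left.continuous
      fun a b h e => H05EGA4.eq_of_specializes_of_fibre f.left h e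
  obtain ⟨M, hM⟩ := H25AbCube.exists_isAmple B
  haveI : CompactSpace A.left := QuasiCompact.compactSpace_of_compactSpace A.hom
  have hP : CohB1.IsAmple ((Scheme.Modules.pullback f.left).obj M) := H11Ample.isAmple_pullback_of_isAffineHom f.left hM
  have hpc : pc _ hP.1 = ev (pc M hM.1) f := pullP_pc _ M hM.1 _
  obtain ⟨hgA', hfinA, hsurA, hdegA⟩ := degree_lam hφ _ hP hg
  obtain ⟨hgB', hfinB, hsurB, hdegB⟩ := degree_lam hφB M hM hgB
  haveI := isMonHom_lam_field hφB (pc M hM.1)
  haveI := isMonHom_transpose hφ hφB hft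
  have hlam := lam_pullback hφ hφB hft (pc M hM.1)
  rw [← hpc] at hlam
  set lamB := Φ φB B (theta (pc M hM.1))
  rw [hlam] at hdegA hfinA hsurA
  haveI := hfinA; haveI := hsurA; haveI := hfinB; haveI := hsurB
  haveI : IsProper ft.left := by
    haveI : IsProper (ft.left ≫ At.hom) := by rw [Over.w ft]; infer_instance
    exact IsProper.of_comp ft.left At.hom
  haveI : LocallyQuasiFinite ft.left := by
    refine LocallyQuasiFinite.of_finite_preimage_singleton _ fun x => ?_
    refine (((f ≫ lamB ≫ ft).left.finite_preimage_singleton x).image (f.left ≫ lamB.left)).subset ?_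
    intro y hy
    obtain ⟨b, rfl⟩ := lamB.left.surjective y
    obtain ⟨a, rfl⟩ := f.left.surjective b
    exact ⟨a, hy, rfl⟩
  haveI : IsFinite ft.left := (IsFinite.iff_isProper_and_locallyQuasiFinite _).2 ⟨inferInstance, inferInstance⟩
  haveI : Flat lamB.left := flat_of_finite lamB hgB hgB'
  haveI : Flat ft.left := flat_of_finite ft hgB' hgA'
  haveI : Surjective ft.left := surjective_of_finite ft.left hgB' hgA'
  refine ⟨inferInstance, inferInstance, inferInstance, fun x => ?_⟩
  rw [finrank_eq_degree ft hgB' hgA' x]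
  have hf : degree f = d := by
    rw [← finrank_eq_degree f hg hgB (genericPoint B.left), hd]
  rw [degree_comp hg hgB hgA' f (lamB ≫ ft), degree_comp hgB hgB' hgA' lamB ft, hf] at hdegA
  have hd0 : d ≠ 0 := fun h0 => by
    have := (Scheme.Hom.one_le_finrank_iff_surjective f.left).2 inferInstance (genericPoint B.left)
    simp only [Pi.one_apply] at this
    have := hd (genericPoint B.left)
    omega
  rw [H25Index.euler_pullback hM f g hgB.le d hd0 hd M hM.1, mul_pow, ← hdegB] at hdegA
  have hB0 : degree lamB ≠ 0 := fun h0 => by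
    rw [← finrank_eq_degree lamB hgB hgB' (genericPoint Bt.left)] at h0
    have := (Scheme.Hom.one_le_finrank_iff_surjective lamB.left).2 inferInstance (genericPoint Bt.left)
    simp only [Pi.one_apply] at this
    omega
  have h' : (d * degree lamB) * degree ft = (d * degree lamB) * d := by
    push_cast at hdegA
    exact_mod_cast (show ((d : ℤ) * degree lamB) * degree ft = ((d : ℤ) * degree lamB) * d by linear_combination hdegA)
  exact mul_left_cancel₀ (mul_ne_zero hd0 hB0) h'

end Groth.Agent.H25Dual
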