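import Groth.Agent.H25Dual.Classes

/-!
# The two maps of a correspondence and biduality
-/

set_option autoImplicit false
set_option linter.style.haveILetI false
set_option linter.unusedSectionVars false
set_option backward.isDefEq.respectTransparency false
universe u

open CategoryTheory CategoryTheory.Limits MonoidalCategory CartesianMonoidalCategory MonObj AlgebraicGeometry
open Groth.Agent Groth.Agent.H25AbCube

noncomputable section

namespace Groth.Agent.H25Dual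

variable {k : Type u} [Field k]

theorem pc_inverse {X : Scheme.{u}} {W U : X.Modules} (hW : PicF.IsInvertible W)
    (h : Nonempty (CohB1.tensorMod W U ≅ Coh.structureModule X)) :
    ∃ hU : PicF.IsInvertible U, pc U hU = -pc W hW := by
  obtain ⟨V, hV, ⟨e⟩⟩ := H11Sym.exists_inverse hW
  obtain ⟨h⟩ := h
  obtain ⟨i⟩ := H25Theta.cancel_right hW (⟨e ≪≫ h.symm ≪≫ H10Coh.Tw.commIso W U⟩ :
    Nonempty (CohB1.tensorMod V W ≅ CohB1.tensorMod U W))
  refine ⟨H11Tilde.isInvertible_of_iso i hV, eq_neg_of_add_eq_zero_left ?_⟩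
  rw [← pc_tensor _ hW (H11Ample.isInvertible_tensor (H11Tilde.isInvertible_of_iso i hV) hW), ← pc_one]
  exact (pc_eq_iff _ _).2 ⟨H10Coh.Tw.commIso U W ≪≫ h⟩

theorem one_eq {T A : Over (Spec (CommRingCat.of k))} [GrpObj A] : (1 : T ⟶ A) = toUnit T ≫ η[A] := rfl

theorem ev_sub {T A : Over (Spec (CommRingCat.of k))} (u v : PC A.left) (f : T ⟶ A) :
    ev (u - v) f = ev u f - ev v f := map_sub _ _ _

theorem ev_self {A : Over (Spec (CommRingCat.of k))} (u : PC A.left) : ev u (𝟙 A) = u := pullP_id u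

theorem symm_eq (X Y : Over (Spec (CommRingCat.of k))) :
    (pullbackSymmetry X.hom Y.hom).hom = (lift (snd X Y) (fst X Y)).left := by
  refine pullback.hom_ext ?_ ?_
  · rw [pullbackSymmetry_hom_comp_fst, show pullback.fst Y.hom X.hom = (fst Y X).left from rfl, ← Over.comp_left,
      lift_fst]
    rfl
  · rw [pullbackSymmetry_hom_comp_snd, show pullback.snd Y.hom X.hom = (snd Y X).left from rfl, ← Over.comp_left,
      lift_snd]
    rfl

variable {A B At Bt Btt : Over (Spec (CommRingCat.of k))} [GrpObj A] [IsProper A.hom] [GeometricallyIntegral A.hom]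
  [GrpObj B] [IsProper B.hom] [GeometricallyIntegral B.hom] [GrpObj At] [GrpObj Bt] [GrpObj Btt]
  {φA : ∀ T : Over (Spec (CommRingCat.of k)), PicF.Cl (PicF.XT A.hom T) → (T ⟶ At)}
  (hA : AbDual.IsDualAV Scheme.fppfPrecoverage A At φA)
  {φB : ∀ T : Over (Spec (CommRingCat.of k)), PicF.Cl (PicF.XT B.hom T) → (T ⟶ Bt)}
  (hB : AbDual.IsDualAV Scheme.fppfPrecoverage B Bt φB)
  {φBt : ∀ T : Over (Spec (CommRingCat.of k)), PicF.Cl (PicF.XT Bt.hom T) → (T ⟶ Btt)}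
  {ξ : PicF.Cl (PicF.XT B.hom Bt)} (hξ : AbDual.IsPoincareCl B Bt φB ξ)
  (hξ' : AbDual.IsPicZeroCl Bt.hom B (PicF.pullCl (pullbackSymmetry Bt.hom B.hom).hom ξ))

include hA hB hξ hξ' in
/-- The second map of a correspondence is the transpose of the first through biduality. -/
theorem correspondence_symm (τ : PC (B ⊗ A).left) (hn : PZ B A (τ - ev τ (lift (fst B A) 1)))
    (hn' : PZ A B (ev τ (lift (snd A B) (fst A B)) -
      ev (ev τ (lift (snd A B) (fst A B))) (lift (fst A B) 1)))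
    (lam : A ⟶ Bt) (hlam : Φ φB A (τ - ev τ (lift (fst B A) 1)) = lam)
    {tl : Btt ⟶ At} (htl : AbDual.IsTranspose lam φA φBt tl) :
    Φ φA B (ev τ (lift (snd A B) (fst A B)) - ev (ev τ (lift (snd A B) (fst A B))) (lift (fst A B) 1)) =
      φBt B (PicF.pullCl (pullbackSymmetry Bt.hom B.hom).hom ξ) ≫ tl := by
  obtain ⟨⟨P, hPe, hP, hfib⟩, hξ1, hξ0⟩ := hξ
  subst hPe
  set ξu : PC (B ⊗ Bt).left := pc P hP with hξu
  have hξz : PZ B Bt ξu := pz_pc hP ⟨P, rfl, hP, hfib⟩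
  have hξΦ : Φ φB Bt ξu = 𝟙 Bt := (Φ_pc _ _ hP).trans hξ1
  have hξr : ev ξu (lift (1 : Bt ⟶ B) (𝟙 Bt)) = 0 := by
    obtain ⟨e⟩ := H12Pic.Sep.iso_of_cl_eq hξ0
    erw [ev, hξu, ← pullP_pc _ P hP (H11Ample.isInvertible_pullback _ hP)]
    rw [← pc_one]
    exact (pc_eq_iff _ _).2 ⟨((Scheme.Modules.pullbackCongr (secT_eq (A := B) Bt)).app P).symm ≪≫ e⟩
  set ξs : PC (Bt ⊗ B).left := ev ξu (lift (snd Bt B) (fst Bt B)) with hξs
  have hcl : toCl (X := PicF.XT Bt.hom B) ξs = PicF.pullCl (pullbackSymmetry Bt.hom B.hom).hom (PicF.cl P) := by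
    rw [symm_eq]
    erw [toCl_pullP, toCl_pc]
  have hξsz : PZ Bt B ξs := by unfold PZ; rw [hcl]; exact hξ'
  set n := τ - ev τ (lift (fst B A) 1) with hndef
  set r := n - ev (ev n (lift (1 : A ⟶ B) (𝟙 A))) (snd B A) with hr
  have hm : ev ξu (B ◁ lam) = r := by
    refine rig_eq hB (pz_ev_left lam hξz) (pz_sub hn (pz_base _)) ?_ ?_ ?_
    · rw [ev_comp, show lift (1 : A ⟶ B) (𝟙 A) ≫ (B ◁ lam) = lam ≫ lift (1 : Bt ⟶ B) (𝟙 Bt) by
        apply CartesianMonoidalCategory.hom_ext <;> simp, ← ev_comp, hξr]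
      exact map_zero _
    · rw [ev_sub, ev_comp, lift_snd, ev_self, sub_self]
    · rw [Φ_nat hB lam hξz, hξΦ, Category.comp_id, Φ_sub hB hn (pz_base _), Φ_base hB, div_one, hlam]
  have h1 : φBt B (toCl (X := PicF.XT Bt.hom B) ξs) ≫ tl = Φ φA B (ev ξs (lam ▷ B)) :=
    (Φ_transpose htl hξsz).symm
  rw [← hcl, h1]
  have h2 : ev ξs (lam ▷ B) = ev r (lift (snd A B) (fst A B)) := by
    rw [← hm, hξs, ev_comp, ev_comp]
    congr 1
    apply CartesianMonoidalCategory.hom_ext <;> simp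
  have hzero : ev τ (1 : A ⊗ B ⟶ B ⊗ A) = 0 := by
    have : (1 : A ⊗ B ⟶ B ⊗ A) = toUnit _ ≫ η[B ⊗ A] := rfl
    rw [this]
    exact ev_toUnit τ _
  have h3 : ev r (lift (snd A B) (fst A B)) =
      (ev τ (lift (snd A B) (fst A B)) - ev (ev τ (lift (snd A B) (fst A B))) (lift (fst A B) 1)) -
        ev (ev τ (lift (𝟙 B) (1 : B ⟶ A))) (snd A B) := by
    simp only [r, hndef, ev_sub, ev_comp]
    have hz : ev τ (lift (1 : A ⊗ B ⟶ B) (1 : A ⊗ B ⟶ A)) = 0 := by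
      rw [show lift (1 : A ⊗ B ⟶ B) (1 : A ⊗ B ⟶ A) = toUnit _ ≫ lift η[B] η[A] by
        apply CartesianMonoidalCategory.hom_ext <;> simp [one_eq]]
      exact ev_toUnit τ _
    simp only [comp_lift, lift_fst, lift_snd, MonObj.comp_one,
      Category.comp_id, hz]
    abel
  rw [h2, h3, Φ_sub hA hn' (pz_base _), Φ_base hA, div_one]

include hB hξ hξ' in
/-- A symmetric rigidified class has a symmetric homomorphism. -/
theorem self_symm (u : PC (B ⊗ B).left) (hu : PZ B B u) (hur : ev u (lift (1 : B ⟶ B) (𝟙 B)) = 0)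
    (hsym : ev u (lift (snd B B) (fst B B)) = u) (lam : B ⟶ Bt) (hlam : Φ φB B u = lam)
    {tl : Btt ⟶ Bt} (htl : AbDual.IsTranspose lam φB φBt tl) :
    lam = φBt B (PicF.pullCl (pullbackSymmetry Bt.hom B.hom).hom ξ) ≫ tl := by
  obtain ⟨⟨P, hPe, hP, hfib⟩, hξ1, hξ0⟩ := hξ
  subst hPe
  set ξu : PC (B ⊗ Bt).left := pc P hP with hξu
  have hξz : PZ B Bt ξu := pz_pc hP ⟨P, rfl, hP, hfib⟩
  have hξΦ : Φ φB Bt ξu = 𝟙 Bt := (Φ_pc _ _ hP).trans hξ1
  have hξr : ev ξu (lift (1 : Bt ⟶ B) (𝟙 Bt)) = 0 := by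
    obtain ⟨e⟩ := H12Pic.Sep.iso_of_cl_eq hξ0
    erw [ev, hξu, ← pullP_pc _ P hP (H11Ample.isInvertible_pullback _ hP)]
    rw [← pc_one]
    exact (pc_eq_iff _ _).2 ⟨((Scheme.Modules.pullbackCongr (secT_eq (A := B) Bt)).app P).symm ≪≫ e⟩
  set ξs : PC (Bt ⊗ B).left := ev ξu (lift (snd Bt B) (fst Bt B)) with hξs
  have hcl : toCl (X := PicF.XT Bt.hom B) ξs = PicF.pullCl (pullbackSymmetry Bt.hom B.hom).hom (PicF.cl P) := by
    rw [symm_eq]
    erw [toCl_pullP, toCl_pc]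
  have hξsz : PZ Bt B ξs := by unfold PZ; rw [hcl]; exact hξ'
  have hm : ev ξu (B ◁ lam) = u := by
    refine rig_eq hB (pz_ev_left lam hξz) hu ?_ hur ?_
    · rw [ev_comp, show lift (1 : B ⟶ B) (𝟙 B) ≫ (B ◁ lam) = lam ≫ lift (1 : Bt ⟶ B) (𝟙 Bt) by
        apply CartesianMonoidalCategory.hom_ext <;> simp, ← ev_comp, hξr]
      exact map_zero _
    · rw [Φ_nat hB lam hξz, hξΦ, Category.comp_id, hlam]
  have h1 : φBt B (toCl (X := PicF.XT Bt.hom B) ξs) ≫ tl = Φ φB B (ev ξs (lam ▷ B)) :=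
    (Φ_transpose htl hξsz).symm
  rw [← hcl, h1]
  have h2 : ev ξs (lam ▷ B) = ev (ev ξu (B ◁ lam)) (lift (snd B B) (fst B B)) := by
    rw [hξs, ev_comp, ev_comp]
    congr 1
    apply CartesianMonoidalCategory.hom_ext <;> simp
  rw [h2, hm, hsym, hlam]

end Groth.Agent.H25Dual
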