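import Groth.Agent.H25Dual.Mumford
import Groth.Agent.H25AbCube.Basic

/-!
# Points of a dual through the group of invertible classes
-/

set_option autoImplicit false
set_option linter.style.haveILetI false
set_option linter.unusedSectionVars false
set_option backward.isDefEq.respectTransparency false
universe u

open CategoryTheory CategoryTheory.Limits MonoidalCategory CartesianMonoidalCategory MonObj AlgebraicGeometry
open Groth.Agent Groth.Agent.H25AbCube
open Groth.Agent.H25Theta (pb pT pC pI pO tI)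

noncomputable section

namespace Groth.Agent.H25Dual

/-- The inverse of a module algebraically equivalent to zero. -/
theorem algEquiv_inverse {k : Type u} [Field k] [IsAlgClosed k] {X : Scheme.{u}} [X.Over (Spec (CommRingCat.of k))]
    {L L' : X.Modules} (h : Pic13.IsAlgEquivZero k X L) (hL : PicF.IsInvertible L)
    (e : CohB1.tensorMod L' L ≅ Coh.structureModule X) : Pic13.IsAlgEquivZero k X L' := by
  obtain ⟨T, q, h1, h2, h3, M, hM, t, t₀, ht, ht₀, ⟨e₁⟩, ⟨e₂⟩⟩ := h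
  obtain ⟨N, hN, ⟨c⟩⟩ := H11Sym.exists_inverse hM
  have key : ∀ (a : Spec (CommRingCat.of k) ⟶ T) (ha : a ≫ q = 𝟙 _),
      Nonempty (CohB1.tensorMod (Pic13.fibreMod k X q a ha N) (Pic13.fibreMod k X q a ha M) ≅
        Coh.structureModule X) := fun a ha =>
    ⟨(pT _ N M).symm ≪≫ (Scheme.Modules.pullback _).mapIso c ≪≫ pO _⟩
  obtain ⟨a⟩ := key t ht
  obtain ⟨b⟩ := key t₀ ht₀
  refine ⟨T, q, h1, h2, h3, N, hN, t, t₀, ht, ht₀,
    H25Theta.cancel_right hL ⟨tI (Iso.refl _) e₁.symm ≪≫ a ≪≫ e.symm⟩,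
    ⟨(H10Coh.Tw.rightUnitIso _).symm ≪≫ tI (Iso.refl _) e₂.symm ≪≫ b⟩⟩

/-- The class of an invertible class. -/
def toCl {X : Scheme.{u}} (u : PC X) : PicF.Cl X := PicF.cl (exists_rep u).choose

theorem toCl_pc {X : Scheme.{u}} (M : X.Modules) (hM : PicF.IsInvertible M) : toCl (pc M hM) = PicF.cl M := by
  obtain ⟨h, e⟩ := (exists_rep (pc M hM)).choose_spec
  exact Quot.sound ((pc_eq_iff h hM).1 e)

theorem toCl_pullP {X Y : Scheme.{u}} (f : X ⟶ Y) (u : PC Y) : toCl (pullP f u) = PicF.pullCl f (toCl u) := by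
  obtain ⟨M, hM, rfl⟩ := exists_rep u
  rw [← pullP_pc f M hM (H11Ample.isInvertible_pullback f hM), toCl_pc, toCl_pc]
  rfl

variable {k : Type u} [Field k] {A At T T' : Over (Spec (CommRingCat.of k))}

/-- An invertible class algebraically trivial on the fibres. -/
def PZ (A T : Over (Spec (CommRingCat.of k))) (u : PC (A ⊗ T).left) : Prop :=
  AbDual.IsPicZeroCl A.hom T (toCl (X := PicF.XT A.hom T) u)

theorem pz_pc {M : (PicF.XT A.hom T).Modules} (hM : PicF.IsInvertible M)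
    (h : AbDual.IsPicZeroCl A.hom T (PicF.cl M)) : PZ A T (pc M hM) := by
  unfold PZ; rw [toCl_pc]; exact h

theorem pz_zero : PZ A T 0 := by
  have h : (0 : PC (A ⊗ T).left) = pc (Coh.structureModule (PicF.XT A.hom T)) H11Ample.isInvertible_structureModule :=
    pc_one.symm
  rw [h]
  exact pz_pc _ (picZero_structure T)

theorem pz_add {u v : PC (A ⊗ T).left} (hu : PZ A T u) (hv : PZ A T v) : PZ A T (u + v) := by
  obtain ⟨M, hM, rfl⟩ := exists_rep u
  obtain ⟨N, hN, rfl⟩ := exists_rep v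
  rw [← pc_tensor hM hN (H11Ample.isInvertible_tensor hM hN)]
  unfold PZ at hu hv
  rw [toCl_pc] at hu hv
  exact pz_pc _ (picZero_tensor (f := A.hom) hu hv)

theorem pz_neg {u : PC (A ⊗ T).left} (hu : PZ A T u) : PZ A T (-u) := by
  obtain ⟨M, hM, rfl⟩ := exists_rep u
  obtain ⟨N, hN, hNu⟩ := exists_rep (-pc M hM)
  rw [← hNu]
  have e : Nonempty (CohB1.tensorMod N M ≅ Coh.structureModule _) := (pc_eq_iff
    (H11Ample.isInvertible_tensor hN hM) H11Ample.isInvertible_structureModule).1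
      (by rw [pc_tensor hN hM, hNu, neg_add_cancel, pc_one])
  obtain ⟨e⟩ := e
  unfold PZ at hu
  rw [toCl_pc] at hu
  obtain ⟨M', hM'e, hM', hfib⟩ := hu
  obtain ⟨i⟩ := H12Pic.Sep.iso_of_cl_eq hM'e
  refine pz_pc hN ⟨N, rfl, hN, fun t Ω _ _ σ hσ => ?_⟩
  letI : (pullback (PicF.XTproj A.hom T) σ).Over (Spec (CommRingCat.of Ω)) := ⟨pullback.snd _ _⟩
  exact algEquiv_inverse (hfib t Ω σ hσ) (H11Ample.isInvertible_pullback _ hM')
    ((pT _ N M').symm ≪≫ (Scheme.Modules.pullback _).mapIso (tI (Iso.refl N) i ≪≫ e) ≪≫ pO _)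

theorem pz_sub {u v : PC (A ⊗ T).left} (hu : PZ A T u) (hv : PZ A T v) : PZ A T (u - v) := by
  rw [sub_eq_add_neg]; exact pz_add hu (pz_neg hv)

theorem pz_ev_left (g : T' ⟶ T) {u : PC (A ⊗ T).left} (hu : PZ A T u) : PZ A T' (ev u (A ◁ g)) := by
  unfold PZ at hu ⊢
  erw [toCl_pullP]
  exact picZero_pull (f := A.hom) g _ (by
    show (A ◁ g).left ≫ (snd A T).left = (snd A T').left ≫ g.left
    rw [← Over.comp_left, ← Over.comp_left, whiskerLeft_snd]) hu

theorem pz_ev_right {B : Over (Spec (CommRingCat.of k))} (f : A ⟶ B) {u : PC (B ⊗ T).left} (hu : PZ B T u) :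
    PZ A T (ev u (f ▷ T)) := by
  unfold PZ at hu ⊢
  erw [toCl_pullP]
  exact picZero_pull (f := B.hom) (f' := A.hom) (𝟙 T) _ (by
    show (f ▷ T).left ≫ (snd B T).left = (snd A T).left ≫ (𝟙 T : T ⟶ T).left
    rw [← Over.comp_left, ← Over.comp_left, whiskerRight_snd, Category.comp_id]) hu

/-- Classes from the base are algebraically trivial on the fibres. -/
theorem pz_base (v : PC T.left) : PZ A T (ev v (snd A T)) := by
  obtain ⟨M, hM, rfl⟩ := exists_rep v
  rw [ev, ← pullP_pc _ M hM (H11Ample.isInvertible_pullback _ hM)]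
  refine pz_pc _ ⟨_, rfl, H11Ample.isInvertible_pullback _ hM, fun t Ω _ _ σ _ => ?_⟩
  letI : (pullback (PicF.XTproj A.hom T) σ).Over (Spec (CommRingCat.of Ω)) := ⟨pullback.snd _ _⟩
  haveI : Subsingleton ↥(Spec (CommRingCat.of Ω)) := inferInstanceAs (Subsingleton (PrimeSpectrum Ω))
  haveI : Nonempty ↥(Spec (CommRingCat.of Ω)) := inferInstanceAs (Nonempty (PrimeSpectrum Ω))
  obtain ⟨c⟩ := H25Theta.nonempty_iso_of_subsingleton (H11Ample.isInvertible_pullback σ hM)
  exact H12Pic.CurveFam.algEquiv_congr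
    (pC (pullback.fst (PicF.XTproj A.hom T) σ) (PicF.XTproj A.hom T) pullback.condition M ≪≫
      (pC (pullback.snd _ _) σ rfl M).symm ≪≫ (Scheme.Modules.pullback _).mapIso c ≪≫ pO _).symm
    H12Pic.CurveFam.algEquiv_structure

variable {φ : ∀ T : Over (Spec (CommRingCat.of k)), PicF.Cl (PicF.XT A.hom T) → (T ⟶ At)}

/-- The point of a class. -/
def Φ (φ : ∀ T : Over (Spec (CommRingCat.of k)), PicF.Cl (PicF.XT A.hom T) → (T ⟶ At))
    (T : Over (Spec (CommRingCat.of k))) (u : PC (A ⊗ T).left) : T ⟶ At := φ T (toCl (X := PicF.XT A.hom T) u)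

theorem Φ_pc (T : Over (Spec (CommRingCat.of k))) (M : (PicF.XT A.hom T).Modules) (hM : PicF.IsInvertible M) :
    Φ φ T (pc M hM) = φ T (PicF.cl M) := by
  show φ T (toCl (pc M hM)) = _
  rw [toCl_pc]

variable [GrpObj At] (hφ : AbDual.IsDualAV Scheme.fppfPrecoverage A At φ)

include hφ in
theorem Φ_add {u v : PC (A ⊗ T).left} (hu : PZ A T u) (hv : PZ A T v) : Φ φ T (u + v) = Φ φ T u * Φ φ T v := by
  obtain ⟨M, hM, rfl⟩ := exists_rep u
  obtain ⟨N, hN, rfl⟩ := exists_rep v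
  rw [← pc_tensor hM hN (H11Ample.isInvertible_tensor hM hN)]
  unfold PZ at hu hv
  rw [toCl_pc] at hu hv
  show φ T (toCl _) = φ T (toCl _) * φ T (toCl _)
  rw [toCl_pc, toCl_pc, toCl_pc]
  exact hφ.mul T M N hu hv

include hφ in
theorem Φ_zero : Φ φ T 0 = 1 := by
  have h := Φ_add hφ (T := T) pz_zero pz_zero
  rw [add_zero] at h
  exact mul_eq_right.1 h.symm

include hφ in
theorem Φ_sub {u v : PC (A ⊗ T).left} (hu : PZ A T u) (hv : PZ A T v) : Φ φ T (u - v) = Φ φ T u / Φ φ T v := by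
  have h := Φ_add hφ (pz_sub hu hv) hv
  rw [sub_add_cancel] at h
  exact eq_div_iff_mul_eq'.2 h.symm

include hφ in
theorem Φ_nat (g : T' ⟶ T) {u : PC (A ⊗ T).left} (hu : PZ A T u) : Φ φ T' (ev u (A ◁ g)) = g ≫ Φ φ T u := by
  obtain ⟨M, hM, rfl⟩ := exists_rep u
  unfold PZ at hu
  show φ T' (toCl (pullP (A ◁ g).left _)) = g ≫ φ T (toCl _)
  erw [toCl_pullP, toCl_pc]
  rw [toCl_pc] at hu
  have h := hφ.relPic.natural T T' g _ hu
  unfold PicF.XTmap at h
  rw [← h]
  congr 2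

include hφ in
/-- Classes from the base have trivial point. -/
theorem Φ_base (v : PC T.left) : Φ φ T (ev v (snd A T)) = 1 := by
  obtain ⟨M, hM, rfl⟩ := exists_rep v
  have hM' := hM
  choose V hV ν using hM'
  refine Over.OverMorphism.ext ((Scheme.openCoverOfIsOpenCover T.left V
    (TopologicalSpace.IsOpenCover.mk (top_le_iff.1 fun x _ => TopologicalSpace.Opens.mem_iSup.2 ⟨x, hV x⟩))).hom_ext
      _ _ fun x => ?_)
  let h := AbDual.ovrHom T (V x).ι
  have h1 := Φ_nat hφ h (pz_base (A := A) (pc M hM))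
  rw [show ev (ev (pc M hM) (snd A T)) (A ◁ h) = ev (ev (pc M hM) h) (snd A _) by
    rw [ev_comp, ev_comp, whiskerLeft_snd], show ev (pc M hM) h = 0 from by
      rw [ev, ← pullP_pc _ M hM (H11Ample.isInvertible_pullback _ hM), ← pc_one]
      exact (pc_eq_iff _ _).2 ⟨((Scheme.Modules.restrictFunctorIsoPullback (V x).ι).app M).symm ≪≫ (ν x).some⟩,
    show ev (0 : PC (AbDual.ovr T (V x).ι).left) (snd A _) = 0 from map_zero _, Φ_zero hφ] at h1
  have h2 : h ≫ Φ φ T (ev (pc M hM) (snd A T)) = h ≫ 1 := by rw [← h1, MonObj.comp_one]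
  exact congrArg CommaMorphism.left h2

/-- The transpose, on classes. -/
theorem Φ_transpose {B Bt : Over (Spec (CommRingCat.of k))} [GrpObj Bt]
    {φB : ∀ T : Over (Spec (CommRingCat.of k)), PicF.Cl (PicF.XT B.hom T) → (T ⟶ Bt)}
    {f : A ⟶ B} {ft : Bt ⟶ At} (hft : AbDual.IsTranspose f φ φB ft) {u : PC (B ⊗ T).left} (hu : PZ B T u) :
    Φ φ T (ev u (f ▷ T)) = Φ φB T u ≫ ft := by
  show φ T (toCl (pullP (f ▷ T).left u)) = φB T (toCl u) ≫ ft
  erw [toCl_pullP]
  rw [← hft T _ hu]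
  congr 2

variable [GrpObj A] [IsProper A.hom] [GeometricallyIntegral A.hom]

include hφ in
/-- A rigidified class with trivial point is zero. -/
theorem rig_eq {u v : PC (A ⊗ T).left} (hu : PZ A T u) (hv : PZ A T v)
    (hur : ev u (lift (1 : T ⟶ A) (𝟙 T)) = 0) (hvr : ev v (lift (1 : T ⟶ A) (𝟙 T)) = 0)
    (h : Φ φ T u = Φ φ T v) : u = v := by
  obtain ⟨M, hM, rfl⟩ := exists_rep u
  obtain ⟨N, hN, rfl⟩ := exists_rep v
  unfold PZ at hu hv
  rw [toCl_pc] at hu hv
  have hr : ∀ (L : (A ⊗ T).left.Modules) (hL : PicF.IsInvertible L),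
      ev (pc L hL) (lift (1 : T ⟶ A) (𝟙 T)) = 0 → IsRigidified T L := by
    intro L hL h0
    rw [ev, ← pullP_pc _ L hL (H11Ample.isInvertible_pullback _ hL), ← pc_one] at h0
    obtain ⟨e⟩ := (pc_eq_iff _ _).1 h0
    exact ⟨(Scheme.Modules.pullbackCongr (secT_eq T)).app L ≪≫ e⟩
  refine (pc_eq_iff hM hN).2 (rig_injective hφ T hM hN hu hv (hr M hM hur) (hr N hN hvr) ?_)
  show φ T (PicF.cl M) = φ T (PicF.cl N)
  simpa [Φ, toCl_pc] using h

end Groth.Agent.H25Dual
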