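import Groth.Agent.H25Dual.DegLam
import Groth.Agent.H25Dual.Bilinear
import Groth.Agent.H25Poinc.Global
import Groth.Agent.H25Index.Degenerate
import Groth.Agent.H25Index.BaseChange

/-!
# A rigidified family with Euler characteristic `±1` is the Poincaré family
-/

set_option autoImplicit false
set_option linter.style.haveILetI false
set_option linter.unusedSectionVars false
set_option backward.isDefEq.respectTransparency false
set_option synthInstance.maxHeartbeats 400000
set_option maxHeartbeats 1600000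
universe u

open CategoryTheory CategoryTheory.Limits MonoidalCategory CartesianMonoidalCategory MonObj AlgebraicGeometry
open Groth.Agent Groth.Agent.H25AbCube Groth.Agent.H25AbCube.GeomTate
open Groth.Agent.H25Index (Kbar gX gp gM FixFinite)

noncomputable section

attribute [local instance] overOf Functor.grpObjObj H10Coh.enoughInjMod

namespace Groth.Agent.H25Dual

variable {k : Type u} [Field k] {B Bt A : Over (Spec (CommRingCat.of k))} [GrpObj A] [IsProper A.hom]
  [GeometricallyIntegral A.hom] [GrpObj B] [IsProper B.hom] [GeometricallyIntegral B.hom]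
  [GrpObj Bt] [IsProper Bt.hom] [GeometricallyIntegral Bt.hom]

/-- Finiteness descends from the algebraic closure. -/
theorem isFinite_of_bc {X Y : Over (Spec (CommRingCat.of k))} (e : X ⟶ Y)
    (h : IsFinite ((bc k (Kbar k)).map e).left) : IsFinite e.left := by
  have hσ : H18Descent.fpqc (pullback.fst Y.hom (σ k (Kbar k))) := by
    refine ⟨⟨?_, ?_⟩, ?_⟩
    · exact MorphismProperty.pullback_fst (P := @Surjective) _ _ (surjective_σ k (Kbar k))
    · refine MorphismProperty.pullback_fst (P := @Flat) _ _ ?_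
      show Flat (Spec.map _)
      rw [HasRingHomProperty.Spec_iff (P := @Flat)]
      exact RingHom.flat_algebraMap_iff.2 inferInstance
    · exact MorphismProperty.pullback_fst (P := @QuasiCompact) _ _ (inferInstanceAs (QuasiCompact (Spec.map _)))
  exact MorphismProperty.of_isPullback_of_descendsAlong (P := @IsFinite) (Q := H18Descent.fpqc.{u})
    (H25Hat.isPullback_bc (Kbar k) e).flip hσ h

/-- A class pulled back along a non-finite homomorphism has Euler characteristic zero. -/
theorem euler_eq_zero_of_not_finite {X Y : Over (Spec (CommRingCat.of k))} [GrpObj X] [IsProper X.hom]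
    [GeometricallyIntegral X.hom] [GrpObj Y] [IsProper Y.hom] [GeometricallyIntegral Y.hom]
    (e : X ⟶ Y) [IsMonHom e] (h : ¬ IsFinite e.left) (u : PC Y.left) (Q : X.left.Modules) (hQ : PicF.IsInvertible Q)
    (hq : pc Q hQ = ev u e) : @Curv2.euler k _ X.left ⟨X.hom⟩ Q = 0 := by
  haveI : IsCommMonObj X := isCommMonObj_of_av
  haveI : IsCommMonObj Y := isCommMonObj_of_av
  haveI : IsIntegral X.left := GeometricallyIntegral.isIntegral_of_subsingleton X.hom
  haveI : IsIntegral Y.left := GeometricallyIntegral.isIntegral_of_subsingleton Y.hom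
  obtain ⟨g, hg⟩ := H25Grp.exists_nat_dim X.hom
  obtain ⟨d, hd⟩ := H25Grp.exists_nat_dim Y.hom
  let e' := (bc k (Kbar k)).map e
  haveI : IsMonHom e' := inferInstanceAs (IsMonHom ((bc k (Kbar k)).map e))
  have hQ' := H11Ample.isInvertible_pullback (gp X) hQ
  have hq' : pc (gM Q) hQ' = ev (pullP (gp Y) u) e' := by
    rw [pullP_pc _ Q hQ, hq]
    show pullP (gp X) (pullP e.left u) = pullP e'.left (pullP (gp Y) u)
    rw [pullP_pullP, pullP_pullP]
    exact congrArg (fun z => pullP z u) (H25Hat.isPullback_bc (Kbar k) e).w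
  have hinf : Set.Infinite {a : 𝟙_ (Over (Spec (CommRingCat.of (Kbar k)))) ⟶ gX X |
      transl (pc (gM Q) hQ') a = pc (gM Q) hQ'} := by
    intro hfin
    refine h (isFinite_of_bc e ?_)
    have hker : Set.Finite {x : pt1 (Kbar k) ⟶ gX X | x ≫ e' = 1} := by
      refine hfin.subset fun x hx => ?_
      show transl (pc (gM Q) hQ') x = pc (gM Q) hQ'
      rw [hq', H25Pic0.transl_pullP (A := gX X) (B := gX Y) e' _ x, hx, transl, MonObj.comp_one, _root_.mul_one,
        show ev (pullP (gp Y) u) (𝟙 (gX Y)) = pullP (gp Y) u from pullP_id _]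
    exact (isFinite_of_finite_pts e' hker (dim_bc (Ω := Kbar k) X hg) (dim_bc (Ω := Kbar k) Y hd)).1
  rw [← H25Index.euler_gM Q (H11Ample.isCoh_of_isInvertible hQ)]
  exact H25Index.euler_eq_zero (gM Q) hQ' hinf

variable {φ : ∀ T : Over (Spec (CommRingCat.of k)), PicF.Cl (PicF.XT B.hom T) → (T ⟶ Bt)}
  (hφ : AbDual.IsDualAV Scheme.fppfPrecoverage B Bt φ)

include hφ in
/-- The classifying morphism is an isomorphism exactly when the Euler characteristic is `±1`. -/
theorem natAbs_euler_eq_one_iff (P : (B ⊗ Bt).left.Modules) (hP : PicF.IsInvertible P)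
    (hξ : AbDual.IsPoincareCl B Bt φ (PicF.cl P)) {g : ℕ} (hA : topologicalKrullDim A.left = g)
    (hB : topologicalKrullDim B.left = g) (Q : (B ⊗ A).left.Modules) (hQ : PicF.IsInvertible Q)
    (hQz : PZ B A (pc (X := (B ⊗ A).left) Q hQ))
    (hl : ev (pc (X := (B ⊗ A).left) Q hQ) (lift (1 : A ⟶ B) (𝟙 A)) = 0)
    (hr : ev (pc (X := (B ⊗ A).left) Q hQ) (B ◁ η[A]) = 0) :
    (@Curv2.euler k _ (B ⊗ A).left ⟨(B ⊗ A).hom⟩ Q).natAbs = 1 ↔
      IsIso (Φ φ A (pc (X := (B ⊗ A).left) Q hQ)) := by
  haveI : IsCommMonObj A := isCommMonObj_of_av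
  haveI : IsCommMonObj B := isCommMonObj_of_av
  haveI : IsCommMonObj Bt := isCommMonObj_of_av
  let q : PC (B ⊗ A).left := pc Q hQ
  let f := Φ φ A q
  have hu := poincare_facts hφ P hP hξ (T := A)
  haveI : IsMonHom f := by
    refine H25Rig.isMonHom_of_one_hom _ ?_
    show η[A] ≫ f = η[Bt]
    rw [← Φ_nat hφ η[A] hQz, hr, Φ_zero hφ, Hom.one_def, toUnit_unique (toUnit _) (𝟙 _), Category.id_comp]
  have hq : q = ev (pc (X := (B ⊗ Bt).left) P hP) (B ◁ f) := by
    have hPz := pz_pc hP hξ.1
    refine rig_eq hφ hQz (pz_ev_left f hPz) hl ?_ ?_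
    · rw [ev_comp, show lift (1 : A ⟶ B) (𝟙 A) ≫ (B ◁ f) = lift (1 : A ⟶ B) f by
        apply CartesianMonoidalCategory.hom_ext <;> simp]
      exact hu.1 f
    · rw [Φ_nat hφ f hPz, show Φ φ Bt (pc (X := (B ⊗ Bt).left) P hP) = 𝟙 Bt from (Φ_pc _ P hP).trans hξ.2.1,
        Category.comp_id]
  let α := B ◁ f
  haveI : IsMonHom α := H25Rig.isMonHom_of_one_hom α (CartesianMonoidalCategory.hom_ext _ _
    (by simp [α, MonObj.one_eq_one, MonObj.one_comp]) (by simp [α, MonObj.one_eq_one, MonObj.one_comp]))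
  haveI : IsProper (B ⊗ A).hom := inferInstance
  haveI : IsProper (B ⊗ Bt).hom := inferInstance
  haveI : GeometricallyIntegral (B ⊗ A).hom := H25Rig.geometricallyIntegral_tensor B A
  haveI : GeometricallyIntegral (B ⊗ Bt).hom := H25Rig.geometricallyIntegral_tensor B Bt
  have hgt := dim_dual hφ hB
  have hBA : topologicalKrullDim (B ⊗ A).left = ((g + g : ℕ) : WithBot ℕ∞) := by
    change topologicalKrullDim ↥(pullback B.hom A.hom) = _
    rw [Groth.Agent.S4643.result B.hom A.hom, hA, hB, Nat.cast_add]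
  have hBBt : topologicalKrullDim (B ⊗ Bt).left = ((g + g : ℕ) : WithBot ℕ∞) := by
    change topologicalKrullDim ↥(pullback B.hom Bt.hom) = _
    rw [Groth.Agent.S4643.result B.hom Bt.hom, hgt, hB, Nat.cast_add]
  have hχP : @Curv2.euler k _ (B ⊗ Bt).left ⟨(B ⊗ Bt).hom⟩ P = (-1) ^ g := by
    obtain ⟨hP0, hP1, -, -⟩ := H25Poinc.global_facts hφ P hP hξ g hB
    refine (finsum_eq_single _ g fun j hj => ?_).trans ?_
    · haveI := hP0 j hj
      rw [Module.finrank_zero_of_subsingleton]
      simp
    · show (-1) ^ g * ((Module.finrank k (Coh.HH (B ⊗ Bt).left P g) : ℕ) : ℤ) = _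
      rw [hP1, Nat.cast_one, _root_.mul_one]
  have hqc : pc Q hQ = ev (pc (X := (B ⊗ Bt).left) P hP) α := hq
  obtain ⟨HP, hHP⟩ := exists_isAmple (B ⊗ Bt)
  haveI : IsIntegral (B ⊗ A).left := GeometricallyIntegral.isIntegral_of_subsingleton (B ⊗ A).hom
  haveI : IsIntegral (B ⊗ Bt).left := GeometricallyIntegral.isIntegral_of_subsingleton (B ⊗ Bt).hom
  show _ ↔ IsIso f
  constructor
  · intro h1
    by_cases hfin : IsFinite α.left
    swap
    · rw [euler_eq_zero_of_not_finite α hfin _ Q hQ hqc] at h1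
      simp at h1
    haveI := hfin
    haveI : Flat α.left := flat_of_finite α hBA hBBt
    haveI : Surjective α.left := surjective_of_finite α.left hBA hBBt
    have hd := fun y => finrank_eq_degree α hBA hBBt y
    have hd0 : degree α ≠ 0 := fun h0 => by
      have := (Scheme.Hom.one_le_finrank_iff_surjective α.left).2 inferInstance (genericPoint (B ⊗ Bt).left)
      simp only [Pi.one_apply] at this
      rw [hd] at this
      omega
    have hχ := H25Index.euler_pullback hHP α (g + g) hBBt.le (degree α) hd0 hd P hP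
    rw [hχP, ← H25Euler.euler_congr ((pc_eq_iff hQ (H11Ample.isInvertible_pullback α.left hP)).1
      (hqc.trans (pullP_pc _ P hP _).symm)).some] at hχ
    rw [hχ, Int.natAbs_mul, Int.natAbs_pow, Int.natAbs_neg, Int.natAbs_one, one_pow, Nat.mul_one,
      Int.natAbs_natCast] at h1
    haveI : IsLocallyNoetherian (B ⊗ Bt).left := LocallyOfFiniteType.isLocallyNoetherian (B ⊗ Bt).hom
    haveI : LocallyOfFinitePresentation α.left := LocallyOfFinitePresentation.iff_locallyOfFiniteType.2 inferInstance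
    haveI : IsIso α.left := (Scheme.Hom.isIso_iff_finrank_eq _).2 (funext fun y => (hd y).trans h1)
    haveI : IsIso α := (have : IsIso ((Over.forget _).map α) := ‹IsIso α.left›; isIso_of_reflects_iso α (Over.forget _))
    have hsec : lift (1 : A ⟶ B) (𝟙 A) ≫ α = f ≫ lift (1 : Bt ⟶ B) (𝟙 Bt) := by
      apply CartesianMonoidalCategory.hom_ext <;> simp [α]
    refine ⟨lift (1 : Bt ⟶ B) (𝟙 Bt) ≫ inv α ≫ snd B A, ?_, ?_⟩
    · rw [← Category.assoc, ← hsec, Category.assoc, IsIso.hom_inv_id_assoc, lift_snd]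
    · rw [Category.assoc, Category.assoc, ← whiskerLeft_snd B f, IsIso.inv_hom_id_assoc, lift_snd]
  · intro hf
    haveI : IsIso α := inferInstanceAs (IsIso (B ◁ f))
    haveI : IsIso α.left := ((Over.forget _).mapIso (asIso α)).isIso_hom
    have hχ := H25Index.euler_pullback hHP α (g + g) hBBt.le 1 one_ne_zero
      (fun y => by rw [Scheme.Hom.finrank_eq_one_of_isIso]; rfl) P hP
    rw [hχP, ← H25Euler.euler_congr ((pc_eq_iff hQ (H11Ample.isInvertible_pullback α.left hP)).1
      (hqc.trans (pullP_pc _ P hP _).symm)).some] at hχ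
    rw [hχ, Int.natAbs_mul, Int.natAbs_pow, Int.natAbs_neg, Int.natAbs_one, one_pow, Nat.mul_one,
      Int.natAbs_natCast]

end Groth.Agent.H25Dual
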