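import Groth.Agent.H25Dual.Basic

/-!
# The Mumford bundle of a line bundle
-/

set_option autoImplicit false
set_option linter.style.haveILetI false
set_option linter.unusedSectionVars false
set_option backward.isDefEq.respectTransparency false
universe u

open CategoryTheory CategoryTheory.Limits MonoidalCategory CartesianMonoidalCategory MonObj AlgebraicGeometry
open Groth.Agent
open Groth.Agent.H25Theta (pb pT pC pI pO tI)

noncomputable section

namespace Groth.Agent.H25Dual

variable {k : Type u} [Field k] {A : Over (Spec (CommRingCat.of k))} [GrpObj A]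

/-- `N` is a Mumford bundle of `L`. -/
abbrev IsMumford (L : A.left.Modules) (N : (PicF.XT A.hom A).Modules) : Prop :=
  AgPol.IsLambdaSheaf (μ[A].left : PicF.XT A.hom A ⟶ A.left) (fst A A).left (snd A A).left L N

theorem one_left (T : Over (Spec (CommRingCat.of k))) : (1 : T ⟶ A).left = T.hom ≫ η[A].left := rfl

/-- The pullback of a line bundle along the constant unit map is trivial. -/
theorem nonempty_pb_one {L : A.left.Modules} (hL : PicF.IsInvertible L) (T : Over (Spec (CommRingCat.of k))) :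
    Nonempty (pb (1 : T ⟶ A).left L ≅ Coh.structureModule T.left) := by
  haveI : Subsingleton (𝟙_ (Over (Spec (CommRingCat.of k)))).left := inferInstanceAs (Subsingleton (PrimeSpectrum k))
  haveI : Nonempty (𝟙_ (Over (Spec (CommRingCat.of k)))).left := inferInstanceAs (Nonempty (PrimeSpectrum k))
  obtain ⟨c⟩ := H25Theta.nonempty_iso_of_subsingleton (H11Ample.isInvertible_pullback η[A].left hL)
  exact ⟨(pC T.hom η[A].left (one_left T).symm L).symm ≪≫ (Scheme.Modules.pullback T.hom).mapIso c ≪≫ pO _⟩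

/-- The defining identity along a pair of points. -/
theorem mumford_pull {L : A.left.Modules} {N : (PicF.XT A.hom A).Modules} (h : IsMumford L N)
    {T : Over (Spec (CommRingCat.of k))} (a b : T ⟶ A) :
    Nonempty (CohB1.tensorMod (CohB1.tensorMod (pb (lift a b).left N) (pb a.left L)) (pb b.left L) ≅
      pb (a * b).left L) := by
  obtain ⟨e⟩ := h
  have h1 : (lift a b).left ≫ (fst A A).left = a.left := by rw [← Over.comp_left, lift_fst]
  have h2 : (lift a b).left ≫ (snd A A).left = b.left := by rw [← Over.comp_left, lift_snd]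
  exact ⟨tI (tI (Iso.refl _) (pC (lift a b).left _ h1 L).symm) (pC (lift a b).left _ h2 L).symm ≪≫
    tI (pT _ _ _).symm (Iso.refl _) ≪≫ (pT _ _ _).symm ≪≫ (Scheme.Modules.pullback (lift a b).left).mapIso e ≪≫
    pC _ _ rfl L⟩

theorem trivial_left {L : A.left.Modules} (hL : PicF.IsInvertible L) {N : (PicF.XT A.hom A).Modules}
    (h : IsMumford L N) {T : Over (Spec (CommRingCat.of k))} (b : T ⟶ A) :
    Nonempty (pb (lift (1 : T ⟶ A) b).left N ≅ Coh.structureModule T.left) := by
  obtain ⟨e⟩ := mumford_pull h (1 : T ⟶ A) b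
  obtain ⟨c⟩ := nonempty_pb_one (A := A) hL T
  exact H25Theta.cancel_right (H11Ample.isInvertible_pullback b.left hL)
    ⟨tI ((H10Coh.Tw.rightUnitIso _).symm ≪≫ tI (Iso.refl _) c.symm) (Iso.refl _) ≪≫ e ≪≫
      (Scheme.Modules.pullbackCongr (by rw [_root_.one_mul])).app L ≪≫ (H10Coh.Tw.leftUnitIso _).symm⟩

theorem trivial_right {L : A.left.Modules} (hL : PicF.IsInvertible L) {N : (PicF.XT A.hom A).Modules}
    (h : IsMumford L N) {T : Over (Spec (CommRingCat.of k))} (a : T ⟶ A) :
    Nonempty (pb (lift a (1 : T ⟶ A)).left N ≅ Coh.structureModule T.left) := by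
  obtain ⟨e⟩ := mumford_pull h a (1 : T ⟶ A)
  obtain ⟨c⟩ := nonempty_pb_one (A := A) hL T
  exact H25Theta.cancel_right (H11Ample.isInvertible_pullback a.left hL)
    ⟨(H10Coh.Tw.rightUnitIso _).symm ≪≫ tI (Iso.refl _) c.symm ≪≫ e ≪≫
      (Scheme.Modules.pullbackCongr (by rw [_root_.mul_one])).app L ≪≫ (H10Coh.Tw.leftUnitIso _).symm⟩

theorem mumford_unique {L L' : A.left.Modules} (hL : PicF.IsInvertible L) (e : L ≅ L')
    {N N' : (PicF.XT A.hom A).Modules} (h : IsMumford L N) (h' : IsMumford L' N') : Nonempty (N ≅ N') := by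
  obtain ⟨a⟩ := h
  obtain ⟨b⟩ := h'
  let p := (fst A A).left
  let q := (snd A A).left
  exact H25Theta.cancel_right (H11Ample.isInvertible_pullback p hL) (H25Theta.cancel_right
    (H11Ample.isInvertible_pullback q hL)
    ⟨a ≪≫ (Scheme.Modules.pullback _).mapIso e ≪≫ b.symm ≪≫
      tI (tI (Iso.refl _) ((Scheme.Modules.pullback p).mapIso e.symm)) ((Scheme.Modules.pullback q).mapIso e.symm)⟩)

/-- Exchange of the middle factors. -/
def tSwap {Z : Scheme.{u}} (a b c d : Z.Modules) :
    CohB1.tensorMod (CohB1.tensorMod a b) (CohB1.tensorMod c d) ≅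
      CohB1.tensorMod (CohB1.tensorMod a c) (CohB1.tensorMod b d) :=
  H10Coh.Tw.assoc _ _ _ ≪≫ tI (Iso.refl a) ((H10Coh.Tw.assoc b c d).symm ≪≫
    tI (H10Coh.Tw.commIso b c) (Iso.refl d) ≪≫ H10Coh.Tw.assoc c b d) ≪≫ (H10Coh.Tw.assoc _ _ _).symm

theorem mumford_tensor {L L' : A.left.Modules} {N N' : (PicF.XT A.hom A).Modules}
    (h : IsMumford L N) (h' : IsMumford L' N') :
    IsMumford (CohB1.tensorMod L L') (CohB1.tensorMod N N') := by
  obtain ⟨a⟩ := h
  obtain ⟨b⟩ := h'
  exact ⟨tI (tI (Iso.refl _) (pT _ L L') ≪≫ tSwap _ _ _ _) (pT _ L L') ≪≫ tSwap _ _ _ _ ≪≫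
    tI a b ≪≫ (pT _ L L').symm⟩

theorem mumford_structure : IsMumford (Coh.structureModule A.left) (Coh.structureModule (PicF.XT A.hom A)) :=
  ⟨tI (tI (Iso.refl _) (pO _) ≪≫ H10Coh.Tw.rightUnitIso _) (pO _) ≪≫ H10Coh.Tw.rightUnitIso _ ≪≫ (pO _).symm⟩

theorem mumford_pow {L : A.left.Modules} {N : (PicF.XT A.hom A).Modules} (h : IsMumford L N) :
    ∀ n : ℕ, IsMumford (CohB1.tensorPow L n) (CohB1.tensorPow N n)
  | 0 => mumford_structure
  | n + 1 => mumford_tensor (mumford_pow h n) h

theorem mumford_hom {L : A.left.Modules} {N : (PicF.XT A.hom A).Modules} (h : IsMumford L N)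
    (f : A ⟶ A) [IsMonHom f] : IsMumford (pb f.left L) (pb (lift (fst A A ≫ f) (snd A A ≫ f)).left N) := by
  obtain ⟨e⟩ := mumford_pull h (fst A A ≫ f) (snd A A ≫ f)
  exact ⟨tI (tI (Iso.refl _) (pC (fst A A).left f.left rfl L)) (pC (snd A A).left f.left rfl L) ≪≫ e ≪≫
    (Scheme.Modules.pullbackCongr (by
      show _ = (μ[A] ≫ f).left
      rw [IsMonHom.mul_hom f]
      congr 1)).app L ≪≫ (pC μ[A].left f.left rfl L).symm⟩

theorem secT_eq (T : Over (Spec (CommRingCat.of k))) :
    PicF.secT A.hom η[A].left (Over.w η[A]) T = (lift (1 : T ⟶ A) (𝟙 T)).left := by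
  refine pullback.hom_ext ?_ ?_
  · rw [PicF.secT, pullback.lift_fst, show pullback.fst A.hom T.hom = (fst A T).left from rfl, ← Over.comp_left,
      lift_fst]
    rfl
  · rw [PicF.secT, pullback.lift_snd, show pullback.snd A.hom T.hom = (snd A T).left from rfl, ← Over.comp_left,
      lift_snd]
    rfl

theorem XTmap_eq {T T' : Over (Spec (CommRingCat.of k))} (x : T' ⟶ T) :
    PicF.XTmap A.hom x = (A ◁ x).left := by
  refine pullback.hom_ext ?_ ?_
  · rw [H17.PullCl.XTmap_fst, show pullback.fst A.hom T.hom = (fst A T).left from rfl, ← Over.comp_left,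
      whiskerLeft_fst]
    rfl
  · rw [H17.PullCl.XTmap_snd, show pullback.snd A.hom T.hom = (snd A T).left from rfl, ← Over.comp_left,
      whiskerLeft_snd]
    rfl

theorem bcMap_eq {B : Over (Spec (CommRingCat.of k))} (f : A ⟶ B) (T : Over (Spec (CommRingCat.of k))) :
    AbDual.bcMap f T = (f ▷ T).left := by
  refine pullback.hom_ext ?_ ?_
  · rw [AbDual.bcMap, pullback.lift_fst, show pullback.fst B.hom T.hom = (fst B T).left from rfl, ← Over.comp_left,
      whiskerRight_fst]
    rfl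
  · rw [AbDual.bcMap, pullback.lift_snd, show pullback.snd B.hom T.hom = (snd B T).left from rfl, ← Over.comp_left,
      whiskerRight_snd, Category.comp_id]
    rfl

theorem isRigidified_mumford [IsProper A.hom] [GeometricallyIntegral A.hom] {L : A.left.Modules}
    (hL : PicF.IsInvertible L) {N : (PicF.XT A.hom A).Modules} (h : IsMumford L N) : IsRigidified A N := by
  obtain ⟨e⟩ := trivial_left hL h (𝟙 A)
  exact ⟨(Scheme.Modules.pullbackCongr (secT_eq A)).app N ≪≫ e⟩

/-- The Mumford bundle is algebraically trivial on the fibres of the second projection. -/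
theorem picZero_mumford [IsProper A.hom] [GeometricallyIntegral A.hom] {L : A.left.Modules}
    (hL : PicF.IsInvertible L) {N : (PicF.XT A.hom A).Modules} (hN : PicF.IsInvertible N) (h : IsMumford L N) :
    AbDual.IsPicZeroCl A.hom A (PicF.cl N) := by
  refine ⟨N, rfl, hN, fun t Ω _ _ σ _ => ?_⟩
  let Y := pullback (PicF.XTproj A.hom A) σ
  letI : Y.Over (Spec (CommRingCat.of Ω)) := ⟨pullback.snd _ _⟩
  let T' := pullback A.hom (σ ≫ A.hom)
  let q : T' ⟶ Spec (CommRingCat.of Ω) := pullback.snd _ _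
  haveI : GeometricallyIntegral q := inferInstanceAs (GeometricallyIntegral (pullback.snd A.hom (σ ≫ A.hom)))
  haveI : LocallyOfFiniteType q := inferInstanceAs (LocallyOfFiniteType (pullback.snd A.hom (σ ≫ A.hom)))
  haveI : QuasiCompact q := inferInstanceAs (QuasiCompact (pullback.snd A.hom (σ ≫ A.hom)))
  haveI : IsIntegral T' := GeometricallyIntegral.isIntegral_of_subsingleton q
  let y1 : Y ⟶ PicF.XT A.hom A := pullback.fst _ _
  have wy : y1 ≫ pullback.snd A.hom A.hom = (Y ↘ Spec (CommRingCat.of Ω)) ≫ σ := pullback.condition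
  let H : Pic13.prodK Ω Y q ⟶ PicF.XT A.hom A :=
    pullback.lift (pullback.fst _ _ ≫ y1 ≫ pullback.fst A.hom A.hom)
      (pullback.snd _ _ ≫ pullback.fst A.hom (σ ≫ A.hom)) (by
        simp only [Category.assoc]
        rw [pullback.condition (f := A.hom) (g := σ ≫ A.hom), pullback.condition (f := A.hom) (g := A.hom),
          reassoc_of% wy]
        exact pullback.condition_assoc (f := Y ↘ Spec (CommRingCat.of Ω)) (g := q) (σ ≫ A.hom))
  let a : Spec (CommRingCat.of Ω) ⟶ T' := pullback.lift σ (𝟙 _) (Category.id_comp _).symm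
  let a₀ : Spec (CommRingCat.of Ω) ⟶ T' := pullback.lift (σ ≫ A.hom ≫ η[A].left) (𝟙 _) (by
    rw [Category.id_comp, Category.assoc, Category.assoc, Over.w η[A]]
    exact congrArg (σ ≫ ·) (Category.comp_id _))
  have ha : a ≫ q = 𝟙 _ := pullback.lift_snd _ _ _
  have ha₀ : a₀ ≫ q = 𝟙 _ := pullback.lift_snd _ _ _
  have w : Pic13.sliceAt Ω Y q a ha ≫ H = y1 := by
    refine pullback.hom_ext ?_ ?_
    · simp only [Pic13.sliceAt, H, Category.assoc, pullback.lift_fst, pullback.lift_fst_assoc, Category.id_comp]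
    · simp only [Pic13.sliceAt, H, a, Category.assoc, pullback.lift_snd, pullback.lift_snd_assoc, pullback.lift_fst]
      exact wy.symm
  let e₀ : A ⊗ A ⟶ A ⊗ A := fst A A ≫ lift (𝟙 A) 1
  have w₀ : Pic13.sliceAt Ω Y q a₀ ha₀ ≫ H = y1 ≫ (e₀.left : PicF.XT A.hom A ⟶ PicF.XT A.hom A) := by
    have h1 : (e₀.left : PicF.XT A.hom A ⟶ PicF.XT A.hom A) ≫ pullback.fst A.hom A.hom = pullback.fst A.hom A.hom := by
      show (e₀ ≫ fst A A).left = (fst A A).left
      rw [Category.assoc, lift_fst, Category.comp_id]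
    have h2 : (e₀.left : PicF.XT A.hom A ⟶ PicF.XT A.hom A) ≫ pullback.snd A.hom A.hom =
        pullback.fst A.hom A.hom ≫ A.hom ≫ η[A].left := by
      show (e₀ ≫ snd A A).left = _
      rw [Category.assoc, lift_snd]
      rfl
    refine pullback.hom_ext ?_ ?_
    · simp only [Pic13.sliceAt, H, Category.assoc, pullback.lift_fst, pullback.lift_fst_assoc, Category.id_comp, h1]
    · simp only [Pic13.sliceAt, H, a₀, Category.assoc, pullback.lift_snd, pullback.lift_snd_assoc, pullback.lift_fst, h2]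
      rw [pullback.condition_assoc (f := A.hom) (g := A.hom), reassoc_of% wy]
  obtain ⟨τ⟩ := trivial_right hL h (𝟙 A)
  let ι₀ : pb (e₀.left : PicF.XT A.hom A ⟶ PicF.XT A.hom A) N ≅ Coh.structureModule _ :=
    (pC (fst A A).left (lift (𝟙 A) (1 : A ⟶ A)).left rfl N).symm ≪≫
      (Scheme.Modules.pullback _).mapIso τ ≪≫ pO _
  exact ⟨T', q, inferInstance, inferInstance, inferInstance, pb H N, H11Ample.isInvertible_pullback H hN,
    a, a₀, ha, ha₀, ⟨pC _ _ w N⟩,
    ⟨pC _ _ w₀ N ≪≫ (pC y1 _ rfl N).symm ≪≫ (Scheme.Modules.pullback y1).mapIso ι₀ ≪≫ pO _⟩⟩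

end Groth.Agent.H25Dual
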