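import Groth.Agent.H25Dual.Biduality
import Groth.Agent.S12008
import Groth.Agent.H25AbCube.PicTorsion
import Groth.Agent.H25AbCube.Nondegenerate
import Groth.Agent.H25AbCube.SimpleProd
import Groth.Agent.H25AbCube.PoincareRegular
import Groth.Agent.H25AbCube.KFinite
import Groth.Agent.H25Grp.Isogeny
import Groth.Agent.H25Rig.GroupMaps
import Groth.Agent.H12Pic.RigPoints

/-!
# Points of a dual over an algebraically closed field, and its dimension
-/

set_option autoImplicit false
set_option linter.style.haveILetI false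
set_option linter.unusedSectionVars false
set_option backward.isDefEq.respectTransparency false
set_option synthInstance.maxHeartbeats 400000
universe u

open CategoryTheory CategoryTheory.Limits MonoidalCategory CartesianMonoidalCategory MonObj AlgebraicGeometry
open Groth.Agent Groth.Agent.H25AbCube
open Groth.Agent.H25Theta (pb pT pC pI pO tI)

noncomputable section

namespace Groth.Agent.H25Dual

variable {k : Type u} [Field k] {A At : Over (Spec (CommRingCat.of k))} [GrpObj A] [IsProper A.hom]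
  [GeometricallyIntegral A.hom] [GrpObj At]
  {φ : ∀ T : Over (Spec (CommRingCat.of k)), PicF.Cl (PicF.XT A.hom T) → (T ⟶ At)}
  (hφ : AbDual.IsDualAV Scheme.fppfPrecoverage A At φ)

/-- A class on the product with a point, moved to the variety. -/
abbrev atPt (u : PC (A ⊗ 𝟙_ (Over (Spec (CommRingCat.of k)))).left) : PC A.left :=
  ev u (lift (𝟙 A) (toUnit A))

theorem atPt_eq_zero_iff (u : PC (A ⊗ 𝟙_ (Over (Spec (CommRingCat.of k)))).left) : atPt u = 0 ↔ u = 0 := by
  refine ⟨fun h => ?_, fun h => by rw [h]; exact map_zero _⟩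
  have h' := congrArg (fun z => ev z (fst A (𝟙_ _))) h
  simp only [atPt, ev_comp] at h'
  rw [show fst A (𝟙_ (Over (Spec (CommRingCat.of k)))) ≫ lift (𝟙 A) (toUnit A) = 𝟙 _ by
    apply CartesianMonoidalCategory.hom_ext
    · simp
    · exact toUnit_unique _ _, ev_self] at h'
  rw [h']; exact map_zero _

theorem rig_point (u : PC (A ⊗ 𝟙_ (Over (Spec (CommRingCat.of k)))).left) :
    ev u (lift (1 : 𝟙_ _ ⟶ A) (𝟙 _)) = 0 := by
  haveI : Subsingleton (𝟙_ (Over (Spec (CommRingCat.of k)))).left := inferInstanceAs (Subsingleton (PrimeSpectrum k))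
  haveI : Nonempty (𝟙_ (Over (Spec (CommRingCat.of k)))).left := inferInstanceAs (Nonempty (PrimeSpectrum k))
  exact eq_zero_of_subsingleton _

include hφ in
theorem Φ_nsmul {T : Over (Spec (CommRingCat.of k))} {u : PC (A ⊗ T).left} (hu : PZ A T u) :
    ∀ n : ℕ, PZ A T (n • u) ∧ Φ φ T (n • u) = Φ φ T u ^ n
  | 0 => ⟨by rw [zero_nsmul]; exact pz_zero, by rw [zero_nsmul, pow_zero]; exact Φ_zero hφ⟩
  | n + 1 => ⟨by rw [succ_nsmul]; exact pz_add (Φ_nsmul hu n).1 hu,
      by rw [succ_nsmul, pow_succ, Φ_add hφ (Φ_nsmul hu n).1 hu, (Φ_nsmul hu n).2]⟩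

variable [IsAlgClosed k]

include hφ in
/-- Every rational point of the dual comes from a class. -/
theorem exists_class (c : 𝟙_ _ ⟶ At) :
    ∃ u : PC (A ⊗ 𝟙_ (Over (Spec (CommRingCat.of k)))).left, PZ A _ u ∧ Φ φ _ u = c := by
  let pt0 : Over (Spec (CommRingCat.of k)) := 𝟙_ _
  obtain ⟨R, hR, hR'⟩ := hφ.relPic.locallySurjective pt0 c
  obtain ⟨U, v, hv, hz, -, -, -⟩ := H12Pic.RigPoints.exists_member hR
  let t : pt0.left := IsLocalRing.closedPoint k
  obtain ⟨z, -⟩ := hz t
  haveI : LocallyOfFinitePresentation (v t) := (hR.2 (hv t)).2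
  let W : Over (Spec (CommRingCat.of k)) := AbDual.ovr pt0 (v t)
  haveI : Nonempty W.left := ⟨z⟩
  haveI : LocallyOfFiniteType pt0.hom := inferInstanceAs (LocallyOfFiniteType (𝟙 (Spec (CommRingCat.of k))))
  haveI : LocallyOfFiniteType W.hom := inferInstanceAs (LocallyOfFiniteType (v t ≫ pt0.hom))
  obtain ⟨s⟩ := exists_rat_point W
  obtain ⟨c', ⟨L, hLc, hL, hfib⟩, hc'Φ⟩ := hR' (v t) (hv t)
  have hu : PZ A W (pc L hL) := pz_pc hL ⟨L, rfl, hL, hfib⟩
  refine ⟨ev (pc L hL) (A ◁ s), pz_ev_left s hu, ?_⟩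
  rw [Φ_nat hφ s hu, Φ_pc, hLc, hc'Φ, ← Category.assoc,
    show s ≫ AbDual.ovrHom pt0 (v t) = 𝟙 pt0 from toUnit_unique _ _, Category.id_comp]

include hφ in
/-- The class of a rational point of the dual. -/
theorem exists_cls : ∃ cls : (𝟙_ _ ⟶ At) → PC (A ⊗ 𝟙_ (Over (Spec (CommRingCat.of k)))).left,
    (∀ c, PZ A _ (cls c) ∧ Φ φ _ (cls c) = c) ∧
      ∀ u, PZ A _ u → cls (Φ φ _ u) = u := by
  choose cls h1 h2 using exists_class hφ
  exact ⟨cls, fun c => ⟨h1 c, h2 c⟩, fun u hu =>
    rig_eq hφ (h1 _) hu (rig_point _) (rig_point _) (h2 _)⟩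

/-- A fibrewise trivial class at a point is translation invariant. -/
theorem transl_atPt [Smooth A.hom] [IsCommMonObj A] (u : PC (A ⊗ 𝟙_ (Over (Spec (CommRingCat.of k)))).left)
    (hu : PZ A _ u) (a : 𝟙_ _ ⟶ A) : transl (atPt u) a = atPt u := by
  obtain ⟨M, hM, rfl⟩ := exists_rep u
  unfold PZ at hu
  rw [toCl_pc] at hu
  obtain ⟨L, hLe, hL, hfib⟩ := hu
  obtain ⟨i⟩ := H12Pic.Sep.iso_of_cl_eq hLe
  let pt0 : Over (Spec (CommRingCat.of k)) := 𝟙_ _
  let σ : Spec (CommRingCat.of k) ⟶ pt0.left := 𝟙 (Spec (CommRingCat.of k))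
  haveI : Subsingleton ↥pt0.left := inferInstanceAs (Subsingleton (PrimeSpectrum k))
  have halg := hfib (IsLocalRing.closedPoint k) k σ (Set.ext fun x =>
    ⟨fun _ => Set.mem_singleton_iff.2 (Subsingleton.elim _ _), fun _ => ⟨x, rfl⟩⟩)
  let e : A ⟶ A ⊗ pt0 := lift (𝟙 A) (toUnit A)
  have he : e.left ≫ PicF.XTproj A.hom pt0 = A.hom ≫ σ := by
    show (e ≫ snd A pt0).left = _
    rw [lift_snd]
    exact (Category.comp_id _).symm
  let h : A.left ⟶ pullback (PicF.XTproj A.hom pt0) σ := pullback.lift e.left A.hom he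
  have h1 := algEquiv_pullback _ A.hom h (pullback.lift_snd _ _ _) halg
  have h2 : @Pic13.IsAlgEquivZero k _ A.left ⟨A.hom⟩ (pb e.left M) := by
    letI : A.left.Over (Spec (CommRingCat.of k)) := ⟨A.hom⟩
    exact H12Pic.CurveFam.algEquiv_congr (pC h _ (pullback.lift_fst _ _ _) L ≪≫
      (Scheme.Modules.pullback e.left).mapIso i) h1
  have hi := H11Ample.isInvertible_pullback e.left hM
  obtain h3 := Groth.Agent.S12008.result k A (pb e.left M) hi h2 a
  have hi' := H11Ample.isInvertible_pullback ((𝟙 A * (toUnit A ≫ a))).left hi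
  have h4 := (pullP_pc _ _ hi hi').symm.trans ((pc_eq_iff hi' hi).2 h3)
  rw [pullP_pc _ M hM hi] at h4
  exact h4

variable [IsProper At.hom] [GeometricallyIntegral At.hom]

include hφ in
/-- The dual has dimension at most that of the variety. -/
theorem dim_dual_le {g d : ℕ} (hg : topologicalKrullDim A.left = g) (hd : topologicalKrullDim At.left = d) :
    d ≤ g := by
  haveI : IsCommMonObj A := isCommMonObj_of_av
  haveI : IsCommMonObj At := isCommMonObj_of_av
  haveI : Smooth A.hom := by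
    haveI : GrpObj (Over.mk A.hom) := inferInstanceAs (GrpObj A)
    exact smooth_of_grpObj A.hom
  obtain ⟨n, hn, -, hnk⟩ := exists_prime_gt k 0
  obtain ⟨hfin, hle⟩ := card_invariant_torsion_le (A := A) hnk g hg
  obtain ⟨cls, hcls, huniq⟩ := exists_cls hφ
  let j : ↥(AbDual.torsPts At n (Over.mk (𝟙 (Spec (CommRingCat.of k))))) →
      {u : PC A.left // (∀ a : 𝟙_ _ ⟶ A, transl u a = u) ∧ n • u = 0} := fun c =>
    ⟨atPt (cls c.1), fun a => transl_atPt _ (hcls c.1).1 a, by
      have h := huniq _ (Φ_nsmul hφ (hcls c.1).1 n).1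
      have hc1 : (c.1 : 𝟙_ (Over (Spec (CommRingCat.of k))) ⟶ At) ^ n = 1 := (AbDual.mem_torsPts At c.1).1 c.2
      rw [(Φ_nsmul hφ (hcls c.1).1 n).2, (hcls c.1).2, hc1, ← Φ_zero hφ (T := 𝟙_ _)] at h
      rw [show n • atPt (cls c.1) = atPt (n • cls c.1) from (map_nsmul _ _ _).symm, ← h, huniq 0 pz_zero]
      exact map_zero _⟩
  have hj : Function.Injective j := fun c c' h => by
    have h1 : atPt (cls c.1) = atPt (cls c'.1) := congrArg Subtype.val h
    have h2 : cls c.1 = cls c'.1 := sub_eq_zero.1 ((atPt_eq_zero_iff _).1 (by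
      rw [atPt, ev_sub]; exact sub_eq_zero.2 h1))
    exact Subtype.ext ((hcls c.1).2.symm.trans ((congrArg (Φ φ _) h2).trans (hcls c'.1).2))
  have hcard := (Nat.card_le_card_of_injective j hj).trans hle
  rw [card_torsPts (A := At) hnk d hd] at hcard
  have := (Nat.pow_le_pow_iff_right hn.one_lt).1 hcard
  omega

/-- The Mumford class of an invertible class. -/
theorem pz_theta (l : PC A.left) : PZ A A (theta l) := by
  obtain ⟨L, hL, rfl⟩ := exists_rep l
  obtain ⟨N, hN, hNe⟩ := exists_rep (theta (pc L hL))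
  rw [← hNe]
  refine pz_pc hN (picZero_mumford hL hN ?_)
  let p := (fst A A).left
  let q := (snd A A).left
  have hp := H11Ample.isInvertible_pullback p hL
  have hq := H11Ample.isInvertible_pullback q hL
  have hm := H11Ample.isInvertible_pullback (μ[A].left) hL
  have hNp := H11Ample.isInvertible_tensor (M := N) hN hp
  refine (pc_eq_iff (H11Ample.isInvertible_tensor hNp hq) hm).1 ?_
  rw [pc_tensor hNp hq, pc_tensor hN hp, hNe, pullP_pc _ L hL hp, pullP_pc _ L hL hq, pullP_pc _ L hL hm, theta,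
    show fst A A * snd A A = μ[A] from (congrArg (· ≫ μ[A]) lift_fst_snd).trans (Category.id_comp _)]
  show ev (pc L hL) μ[A] - ev (pc L hL) (fst A A) - ev (pc L hL) (snd A A) + ev (pc L hL) (fst A A) +
    ev (pc L hL) (snd A A) = ev (pc L hL) μ[A]
  abel

theorem rig_theta (l : PC A.left) : ev (theta l) (lift (1 : A ⟶ A) (𝟙 A)) = 0 := by
  rw [ev_theta, _root_.one_mul, show ev l (1 : A ⟶ A) = 0 from ev_toUnit l η[A]]
  abel

include hφ in
theorem comp_lam (l : PC A.left) {T : Over (Spec (CommRingCat.of k))} (x : T ⟶ A) :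
    x ≫ Φ φ A (theta l) = Φ φ T (th l (fst A T) (snd A T ≫ x)) ∧ PZ A T (th l (fst A T) (snd A T ≫ x)) := by
  have h : th l (fst A T) (snd A T ≫ x) = ev (theta l) (A ◁ x) := by
    rw [← th_eq]
    congr 1
  rw [h]
  exact ⟨(Φ_nat hφ x (pz_theta l)).symm, pz_ev_left x (pz_theta l)⟩

include hφ in
theorem isMonHom_lam (l : PC A.left) : IsMonHom (Φ φ A (theta l)) := by
  haveI : IsCommMonObj A := isCommMonObj_of_av
  refine H25Rig.isMonHom_of_one_hom _ ?_
  rw [(comp_lam hφ l η[A]).1, show snd A (𝟙_ _) ≫ η[A] = (1 : A ⊗ 𝟙_ _ ⟶ A) by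
    rw [one_eq, toUnit_unique (snd A (𝟙_ _)) (toUnit _)], th_one_right, Φ_zero hφ, Hom.one_def,
    toUnit_unique (toUnit _) (𝟙 _), Category.id_comp]

include hφ in
/-- The homomorphism of an ample class is an isogeny and the dual has the same dimension. -/
theorem isogeny_of_isAmple (L : A.left.Modules) (hL : CohB1.IsAmple L) {g : ℕ}
    (hg : topologicalKrullDim A.left = g) :
    topologicalKrullDim At.left = g ∧ IsFinite (Φ φ A (theta (pc L hL.1))).left ∧
      Surjective (Φ φ A (theta (pc L hL.1))).left := by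
  haveI : IsCommMonObj A := isCommMonObj_of_av
  haveI : IsCommMonObj At := isCommMonObj_of_av
  haveI := isMonHom_lam hφ (pc L hL.1)
  haveI : IsIntegral A.left := GeometricallyIntegral.isIntegral_of_subsingleton A.hom
  haveI : IsIntegral At.left := GeometricallyIntegral.isIntegral_of_subsingleton At.hom
  obtain ⟨d, hd⟩ := H25Grp.exists_nat_dim At.hom
  have hker : Set.Finite {x : pt1 k ⟶ A | x ≫ Φ φ A (theta (pc L hL.1)) = 1} := by
    refine Set.Finite.subset (finite_fixing L hL) fun x hx => ?_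
    obtain ⟨h1, h2⟩ := comp_lam hφ (pc L hL.1) (T := 𝟙_ _) x
    have h3 : th (pc L hL.1) (fst A (𝟙_ _)) (snd A (𝟙_ _) ≫ x) = 0 :=
      rig_eq hφ h2 pz_zero (rig_point _) (rig_point _) ((h1.symm.trans hx).trans (Φ_zero hφ).symm)
    have h4 := congrArg (fun z => ev z (lift (𝟙 A) (toUnit A))) h3
    simp only [ev_th, lift_fst, lift_snd_assoc] at h4
    show transl (pc L hL.1) x = pc L hL.1
    rw [transl_eq_add_th, h4]
    exact (congrArg (pc L hL.1 + ·) (map_zero _)).trans (add_zero _)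
  obtain ⟨hfin, hle⟩ := isFinite_of_finite_pts (Φ φ A (theta (pc L hL.1))) hker hg hd
  obtain rfl : d = g := le_antisymm (dim_dual_le hφ hg hd) hle
  haveI := hfin
  exact ⟨hd, hfin, H25Grp.surjective_of_finite A.hom At.hom (Φ φ A (theta (pc L hL.1))).left (hg.trans hd.symm)⟩

theorem pc_mumford {L : A.left.Modules} (hL : PicF.IsInvertible L) {N : (PicF.XT A.hom A).Modules}
    (hN : PicF.IsInvertible N) (h : IsMumford L N) : pc (X := (A ⊗ A).left) N hN = theta (pc L hL) := by
  obtain ⟨a⟩ := h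
  let p := (fst A A).left
  let q := (snd A A).left
  have hp := H11Ample.isInvertible_pullback p hL
  have hq := H11Ample.isInvertible_pullback q hL
  have hm := H11Ample.isInvertible_pullback (μ[A].left) hL
  have hNp := H11Ample.isInvertible_tensor (M := N) hN hp
  have e := (pc_eq_iff (H11Ample.isInvertible_tensor hNp hq) hm).2 ⟨a⟩
  rw [pc_tensor hNp hq, pc_tensor hN hp, pullP_pc _ L hL hp, pullP_pc _ L hL hq, pullP_pc _ L hL hm] at e
  rw [theta, show fst A A * snd A A = μ[A] from (congrArg (· ≫ μ[A]) lift_fst_snd).trans (Category.id_comp _)]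
  show _ = pullP μ[A].left (pc L hL) - pullP p (pc L hL) - pullP q (pc L hL)
  exact (eq_sub_of_add_eq (eq_sub_of_add_eq e)).trans (sub_right_comm _ _ _)

include hφ in
theorem Φ_theta_of_isLambda {L : A.left.Modules} (hL : PicF.IsInvertible L) {lam : A ⟶ At}
    (h : AgPol.IsLambda A At φ L lam) : Φ φ A (theta (pc L hL)) = lam := by
  obtain ⟨N, hN, h1, h2⟩ := h
  rw [← pc_mumford hL hN h1, ← h2]
  exact Φ_pc A N hN

end Groth.Agent.H25Dual
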